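import Groth.Prelude.Def_W4stkfunctorsequivSib
import Mathlib.Algebra.Homology.DerivedCategory.TStructure
import Mathlib.Algebra.Homology.DerivedCategory.ShortExact
import Mathlib.Algebra.Homology.DerivedCategory.FullyFaithful
import Mathlib.Algebra.Homology.HomologicalComplexAbelian
import Mathlib.CategoryTheory.Triangulated.Functor
import Mathlib.CategoryTheory.Triangulated.TStructure.TruncLTGE
import Mathlib.CategoryTheory.Triangulated.Subcategory
import Mathlib.CategoryTheory.Triangulated.Triangulated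

/-!
# Exact functors on a bounded derived category are determined on objects by their restriction to the heart
-/

set_option autoImplicit false
set_option linter.style.haveILetI false

universe w v u v' u'

open CategoryTheory CategoryTheory.Limits CategoryTheory.Pretriangulated DerivedCategory

namespace Groth.Agent.H02CA.Sib

variable {A : Type u} [Category.{v} A] [Abelian A] [HasDerivedCategory.{w} A]

variable (A) in
/-- Objects placed in one degree. -/
noncomputable abbrev sB (b : ℤ) : A ⥤ DerivedCategory.Bounded A :=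
  DerivedCategory.TStructure.t.bounded.lift (DerivedCategory.singleFunctor A b)
    (fun _ => ⟨⟨b, inferInstance⟩, ⟨b, inferInstance⟩⟩)

variable (A) in
/-- Shifts of objects placed in one degree. -/
noncomputable def shiftSB (n a a' : ℤ) (h : n + a = a') :
    sB A a' ⋙ shiftFunctor (DerivedCategory.Bounded A) n ≅ sB A a :=
  ((ObjectProperty.fullyFaithfulι _).whiskeringRight A).preimageIso
    (Functor.associator _ _ _ ≪≫ Functor.isoWhiskerLeft _ ((Bounded.ι (C := A)).commShiftIso n) ≪≫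
      (Functor.associator _ _ _).symm ≪≫
      Functor.isoWhiskerRight (DerivedCategory.TStructure.t.bounded.liftCompιIso _ _) _ ≪≫
      (DerivedCategory.singleFunctors A).shiftIso n a a' h ≪≫
      (DerivedCategory.TStructure.t.bounded.liftCompιIso _ _).symm)

/-- A bounded complex as a bounded object. -/
noncomputable def qB (C : CochainComplex A ℤ) (a b : ℤ) [C.IsStrictlyGE a] [C.IsStrictlyLE b] :
    DerivedCategory.Bounded A :=
  ⟨Q.obj C, ⟨a, inferInstance⟩, ⟨b, inferInstance⟩⟩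

/-- A morphism of complexes as a morphism of bounded objects. -/
noncomputable def qMap {C C' : CochainComplex A ℤ} (a b a' b' : ℤ) [C.IsStrictlyGE a] [C.IsStrictlyLE b]
    [C'.IsStrictlyGE a'] [C'.IsStrictlyLE b'] (f : C ⟶ C') : qB C a b ⟶ qB C' a' b' :=
  ObjectProperty.homMk (Q.map f)

/-- The top term. -/
noncomputable def topMap (C : CochainComplex A ℤ) (b : ℤ) [C.IsStrictlyLE b] :
    (HomologicalComplex.single A (ComplexShape.up ℤ) b).obj (C.X b) ⟶ C :=
  HomologicalComplex.mkHomFromSingle (𝟙 _) fun k hk => (C.isZero_of_isStrictlyLE b k (by simp at hk; omega)).eq_of_tgt _ _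

lemma topMap_f (C : CochainComplex A ℤ) (b : ℤ) [C.IsStrictlyLE b] : IsIso ((topMap C b).f b) := by
  rw [topMap, HomologicalComplex.mkHomFromSingle_f]
  infer_instance

instance mono_topMap (C : CochainComplex A ℤ) (b : ℤ) [C.IsStrictlyLE b] : Mono (topMap C b) := by
  refine @HomologicalComplex.mono_of_mono_f _ _ _ _ _ _ _ (topMap C b) fun i => ?_
  by_cases h : i = b
  · subst h
    haveI := topMap_f C i
    infer_instance
  · exact ⟨fun g g' _ => (HomologicalComplex.isZero_single_obj_X (ComplexShape.up ℤ) b (C.X b) i h).eq_of_tgt g g'⟩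

/-- The complex without its top term. -/
noncomputable abbrev lowCx (C : CochainComplex A ℤ) (b : ℤ) [C.IsStrictlyLE b] : CochainComplex A ℤ :=
  cokernel (topMap C b)

lemma shortExact_low (C : CochainComplex A ℤ) (b : ℤ) [C.IsStrictlyLE b] :
    (ShortComplex.mk (topMap C b) (cokernel.π (topMap C b)) (cokernel.condition _)).ShortExact :=
  { exact := ShortComplex.exact_of_g_is_cokernel _ (cokernelIsCokernel _) }

lemma epi_π_f (C : CochainComplex A ℤ) (b : ℤ) [C.IsStrictlyLE b] (i : ℤ) :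
    Epi ((cokernel.π (topMap C b)).f i) :=
  inferInstanceAs (Epi ((HomologicalComplex.eval A (ComplexShape.up ℤ) i).map (cokernel.π (topMap C b))))

lemma lowCx_isStrictlyGE (C : CochainComplex A ℤ) (a b : ℤ) [C.IsStrictlyGE a] [C.IsStrictlyLE b] :
    (lowCx C b).IsStrictlyGE a := by
  rw [CochainComplex.isStrictlyGE_iff]
  intro i hi
  haveI := epi_π_f C b i
  exact (C.isZero_of_isStrictlyGE a i hi).of_epi ((cokernel.π (topMap C b)).f i)

lemma lowCx_isStrictlyLE (C : CochainComplex A ℤ) (b : ℤ) [C.IsStrictlyLE b] :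
    (lowCx C b).IsStrictlyLE (b - 1) := by
  rw [CochainComplex.isStrictlyLE_iff]
  intro i hi
  haveI := epi_π_f C b i
  by_cases h : i = b
  · subst h
    haveI := topMap_f C i
    have h0 : (cokernel.π (topMap C i)).f i = 0 := by
      rw [← cancel_epi ((topMap C i).f i), comp_zero, ← HomologicalComplex.comp_f, cokernel.condition]
      rfl
    exact IsZero.of_epi_eq_zero _ h0
  · exact (C.isZero_of_isStrictlyLE b i (by omega)).of_epi ((cokernel.π (topMap C b)).f i)

/-- The top triangle. -/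
noncomputable def topTri (C : CochainComplex A ℤ) (a b : ℤ) [C.IsStrictlyGE a] [C.IsStrictlyLE b]
    [(lowCx C b).IsStrictlyGE a] [(lowCx C b).IsStrictlyLE (b - 1)] : Triangle (DerivedCategory.Bounded A) :=
  Triangle.mk (ObjectProperty.homMk (Q.map (topMap C b)) : (sB A b).obj (C.X b) ⟶ qB C a b)
    (qMap a b a (b - 1) (cokernel.π (topMap C b)))
    ((Bounded.ι (C := A)).preimage (triangleOfSESδ (shortExact_low C b) ≫
      ((Bounded.ι (C := A)).commShiftIso (1 : ℤ)).inv.app ((sB A b).obj (C.X b))))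

lemma topTri_distinguished (C : CochainComplex A ℤ) (a b : ℤ) [C.IsStrictlyGE a] [C.IsStrictlyLE b]
    [(lowCx C b).IsStrictlyGE a] [(lowCx C b).IsStrictlyLE (b - 1)] : topTri C a b ∈ distTriang _ := by
  rw [← (Bounded.ι (C := A)).map_distinguished_iff]
  refine isomorphic_distinguished _ (triangleOfSES_distinguished (shortExact_low C b)) _
    (Triangle.isoMk _ _ (Iso.refl _) (Iso.refl _) (Iso.refl _)
      ((Category.comp_id _).trans (Category.id_comp _).symm)
      ((Category.comp_id _).trans (Category.id_comp _).symm) ?_)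
  change ((Bounded.ι (C := A)).map ((Bounded.ι (C := A)).preimage _) ≫ ((Bounded.ι (C := A)).commShiftIso (1 : ℤ)).hom.app _) ≫ _ = _
  rw [Functor.map_preimage]
  erw [Category.assoc, Category.assoc, Iso.inv_hom_id_app_assoc, CategoryTheory.Functor.map_id]
  exact (Category.comp_id _).trans (Category.id_comp _).symm

variable {D : Type u'} [Category.{v'} D] [Preadditive D] [HasZeroObject D] [HasShift D ℤ]
  [∀ n : ℤ, (shiftFunctor D n).Additive] [Pretriangulated D]
  {F F' : DerivedCategory.Bounded A ⥤ D} [F.CommShift ℤ] [F.IsTriangulated] [F'.CommShift ℤ] [F'.IsTriangulated]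

omit [F'.CommShift ℤ] [F'.IsTriangulated] in
lemma isZero_qB (C : CochainComplex A ℤ) (a b : ℤ) [C.IsStrictlyGE a] [C.IsStrictlyLE b] (h : b < a) :
    IsZero (F.obj (qB C a b)) := by
  have hC : IsZero C := by
    rw [IsZero.iff_id_eq_zero]
    ext i
    rcases lt_or_ge i a with hi | hi
    · exact (C.isZero_of_isStrictlyGE a i hi).eq_of_src _ _
    · exact (C.isZero_of_isStrictlyLE b i (by omega)).eq_of_src _ _
  exact F.map_isZero ((IsZero.iff_id_eq_zero _).2 ((Bounded.ι (C := A)).map_injective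
    ((Q.map_isZero hC).eq_of_src _ _)))

omit [F'.CommShift ℤ] [F'.IsTriangulated] in
/-- Vanishing of maps out of a bounded complex. -/
theorem hom_eq_zero (n : ℕ) : ∀ (C : CochainComplex A ℤ) (a b : ℤ) [C.IsStrictlyGE a] [C.IsStrictlyLE b],
    b < a + n → ∀ (Z : D), (∀ (i : ℤ) (X : A), i ≤ b → ∀ g : F.obj ((sB A i).obj X) ⟶ Z, g = 0) →
      ∀ g : F.obj (qB C a b) ⟶ Z, g = 0 := by
  induction n with
  | zero => exact fun C a b _ _ h Z _ g => (isZero_qB C a b (by simpa using h)).eq_of_src _ _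
  | succ n ih =>
    intro C a b _ _ h Z hZ g
    haveI := lowCx_isStrictlyGE C a b
    haveI := lowCx_isStrictlyLE C b
    obtain ⟨g', rfl⟩ := Triangle.yoneda_exact₂ _ (F.map_distinguished _ (topTri_distinguished C a b)) g
      (hZ b _ le_rfl _)
    rw [ih (lowCx C b) a (b - 1) (by push_cast at h ⊢; omega) Z (fun i X hi => hZ i X (by omega)) g']
    exact comp_zero

omit [F'.CommShift ℤ] [F'.IsTriangulated] in
/-- Transport of vanishing to shifted objects. -/
lemma shifted_eq_zero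
    (h2 : ∀ (X Y : A) (q : ℤ), q < 0 →
      ∀ f : F.obj ((DEquiv.singleB A).obj X) ⟶ (shiftFunctor D q).obj (F.obj ((DEquiv.singleB A).obj Y)), f = 0)
    (X Y : A) (i c : ℤ) (h : i < c) (g : F.obj ((sB A i).obj X) ⟶ F.obj ((sB A c).obj Y)) : g = 0 := by
  let e₀ : F.obj ((sB A i).obj X) ≅ (shiftFunctor D (-i)).obj (F.obj ((DEquiv.singleB A).obj X)) :=
    F.mapIso ((shiftSB A (-i) i 0 (by omega)).app X).symm ≪≫ (F.commShiftIso (-i)).app _
  let e₁ : F.obj ((sB A c).obj Y) ≅
      (shiftFunctor D (-i)).obj ((shiftFunctor D (i - c)).obj (F.obj ((DEquiv.singleB A).obj Y))) :=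
    F.mapIso ((shiftSB A (-c) c 0 (by omega)).app Y).symm ≪≫ (F.commShiftIso (-c)).app _ ≪≫
      (shiftFunctorAdd' D (i - c) (-i) (-c) (by omega)).app _
  obtain ⟨f, hf⟩ := (shiftFunctor D (-i)).map_surjective (e₀.inv ≫ g ≫ e₁.hom)
  rw [h2 X Y (i - c) (by omega) f, Functor.map_zero] at hf
  rw [← cancel_epi e₀.inv, ← cancel_mono e₁.hom, Category.assoc, ← hf, comp_zero, zero_comp]

omit [F.IsTriangulated] [F'.IsTriangulated] in
/-- The next natural isomorphism. -/
noncomputable def nextθ (b : ℤ) (θ : sB A b ⋙ F ≅ sB A b ⋙ F') : sB A (b - 1) ⋙ F ≅ sB A (b - 1) ⋙ F' :=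
  Functor.isoWhiskerRight (shiftSB A 1 (b - 1) b (by omega)).symm F ≪≫ Functor.associator _ _ _ ≪≫
    Functor.isoWhiskerLeft _ (F.commShiftIso (1 : ℤ)) ≪≫ (Functor.associator _ _ _).symm ≪≫
    Functor.isoWhiskerRight θ _ ≪≫ Functor.associator _ _ _ ≪≫
    Functor.isoWhiskerLeft _ (F'.commShiftIso (1 : ℤ)).symm ≪≫ (Functor.associator _ _ _).symm ≪≫
    Functor.isoWhiskerRight (shiftSB A 1 (b - 1) b (by omega)) F'

omit [F.IsTriangulated] [F'.IsTriangulated] in
lemma nextθ_spec (b : ℤ) (θ : sB A b ⋙ F ≅ sB A b ⋙ F') {X Y : A}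
    (φ : (sB A (b - 1)).obj X ⟶ (shiftFunctor (DerivedCategory.Bounded A) (1 : ℤ)).obj ((sB A b).obj Y)) :
    F.map φ ≫ (F.commShiftIso (1 : ℤ)).hom.app _ ≫ (shiftFunctor D (1 : ℤ)).map (θ.hom.app Y) =
      (nextθ b θ).hom.app X ≫ F'.map φ ≫ (F'.commShiftIso (1 : ℤ)).hom.app _ := by
  let ε := shiftSB A 1 (b - 1) b (by omega)
  obtain ⟨g, hg⟩ : ∃ g : X ⟶ Y, (sB A (b - 1)).map g = φ ≫ ε.hom.app Y :=
    (sB A (b - 1)).map_surjective _
  have hφ : φ = (sB A (b - 1)).map g ≫ ε.inv.app Y := by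
    rw [hg, Category.assoc, Iso.hom_inv_id_app]
    exact (Category.comp_id _).symm
  have hn : F.map ((sB A (b - 1)).map g) ≫ (nextθ b θ).hom.app Y =
      (nextθ b θ).hom.app X ≫ F'.map ((sB A (b - 1)).map g) := (nextθ b θ).hom.naturality g
  have happ : (nextθ b θ).hom.app Y = F.map (ε.inv.app Y) ≫ (F.commShiftIso (1 : ℤ)).hom.app _ ≫
      (shiftFunctor D (1 : ℤ)).map (θ.hom.app Y) ≫ (F'.commShiftIso (1 : ℤ)).inv.app _ ≫ F'.map (ε.hom.app Y) := by
    simp [nextθ, ε]
  rw [hφ, Functor.map_comp, Functor.map_comp, Category.assoc]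
  refine Eq.trans ?_ (congrArg (fun m => m ≫ F'.map (ε.inv.app Y) ≫ (F'.commShiftIso (1 : ℤ)).hom.app _) hn) |>.trans
    (by simp only [Category.assoc])
  rw [happ]
  simp only [Category.assoc]
  erw [← F'.map_comp_assoc (ε.hom.app Y) (ε.inv.app Y), Iso.hom_inv_id_app, CategoryTheory.Functor.map_id,
    Category.id_comp, Iso.inv_hom_id_app, Category.comp_id]

/-- The inductive comparison. -/
theorem exists_iso_compat
    (h2 : ∀ (X Y : A) (q : ℤ), q < 0 →
      ∀ f : F.obj ((DEquiv.singleB A).obj X) ⟶ (shiftFunctor D q).obj (F.obj ((DEquiv.singleB A).obj Y)), f = 0)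
    (n : ℕ) : ∀ (C : CochainComplex A ℤ) (a b : ℤ) [C.IsStrictlyGE a] [C.IsStrictlyLE b],
    b < a + n → ∀ θ : sB A b ⋙ F ≅ sB A b ⋙ F', ∃ c : F.obj (qB C a b) ≅ F'.obj (qB C a b),
      F.map (ObjectProperty.homMk (Q.map (topMap C b)) : (sB A b).obj (C.X b) ⟶ qB C a b) ≫ c.hom =
        θ.hom.app (C.X b) ≫
          F'.map (ObjectProperty.homMk (Q.map (topMap C b)) : (sB A b).obj (C.X b) ⟶ qB C a b) := by
  induction n with
  | zero =>
    intro C a b _ _ h θ
    refine ⟨(isZero_qB C a b (by simpa using h)).iso (isZero_qB C a b (by simpa using h)), ?_⟩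
    exact (isZero_qB (F := F') C a b (by simpa using h)).eq_of_tgt _ _
  | succ n ih =>
    intro C a b _ _ h θ
    haveI := lowCx_isStrictlyGE C a b
    haveI := lowCx_isStrictlyLE C b
    haveI := lowCx_isStrictlyGE (lowCx C b) a (b - 1)
    haveI := lowCx_isStrictlyLE (lowCx C b) (b - 1)
    obtain ⟨c₀, hc₀⟩ := ih (lowCx C b) a (b - 1) (by push_cast at h ⊢; omega) (nextθ b θ)
    let T := topTri C a b
    let u₀ : (sB A (b - 1)).obj ((lowCx C b).X (b - 1)) ⟶ qB (lowCx C b) a (b - 1) :=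
      ObjectProperty.homMk (Q.map (topMap (lowCx C b) (b - 1)))
    let Δ : F.obj T.obj₃ ⟶ (shiftFunctor D (1 : ℤ)).obj (F'.obj T.obj₁) :=
      ((F.map T.mor₃ ≫ (F.commShiftIso (1 : ℤ)).hom.app T.obj₁) ≫
        (shiftFunctor D (1 : ℤ)).map (θ.hom.app (C.X b)) :
          F.obj T.obj₃ ⟶ (shiftFunctor D (1 : ℤ)).obj (F'.obj T.obj₁)) -
        (c₀.hom ≫ F'.map T.mor₃ ≫ (F'.commShiftIso (1 : ℤ)).hom.app T.obj₁ :
          F.obj T.obj₃ ⟶ (shiftFunctor D (1 : ℤ)).obj (F'.obj T.obj₁))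
    have hΔ : Δ = 0 := by
      have h0 : (F.mapTriangle.obj (topTri (lowCx C b) a (b - 1))).mor₁ ≫ Δ = 0 := by
        change F.map u₀ ≫ Δ = 0
        refine (Preadditive.comp_sub _ _ _).trans (sub_eq_zero.2 ?_)
        change F.map u₀ ≫ (F.map T.mor₃ ≫ (F.commShiftIso (1 : ℤ)).hom.app _) ≫ _ =
          F.map u₀ ≫ c₀.hom ≫ F'.map T.mor₃ ≫ (F'.commShiftIso (1 : ℤ)).hom.app _
        rw [← Category.assoc (F.map u₀) c₀.hom, hc₀, Category.assoc, Category.assoc, ← Functor.map_comp_assoc,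
          ← Functor.map_comp_assoc]
        exact nextθ_spec b θ (u₀ ≫ T.mor₃)
      obtain ⟨g, hg⟩ := Triangle.yoneda_exact₂ _
        (F.map_distinguished _ (topTri_distinguished (lowCx C b) a (b - 1))) Δ h0
      rw [hg, hom_eq_zero n (lowCx (lowCx C b) (b - 1)) a (b - 1 - 1) (by push_cast at h ⊢; omega) _ ?_ g]
      · exact comp_zero
      intro i X hi g'
      let e : (shiftFunctor D (1 : ℤ)).obj (F'.obj T.obj₁) ≅ F.obj ((sB A (b - 1)).obj (C.X b)) :=
        (shiftFunctor D (1 : ℤ)).mapIso (θ.app _).symm ≪≫ (F.commShiftIso (1 : ℤ)).symm.app _ ≪≫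
          F.mapIso ((shiftSB A 1 (b - 1) b (by omega)).app _)
      rw [← cancel_mono e.hom, zero_comp]
      exact shifted_eq_zero h2 X _ i (b - 1) (by omega) _
    obtain ⟨φ, hφ₁, hφ₂⟩ := complete_distinguished_triangle_morphism₂ (F.mapTriangle.obj T) (F'.mapTriangle.obj T)
      (F.map_distinguished _ (topTri_distinguished C a b)) (F'.map_distinguished _ (topTri_distinguished C a b))
      (θ.hom.app (C.X b)) c₀.hom (sub_eq_zero.1 hΔ)
    let χ : F.mapTriangle.obj T ⟶ F'.mapTriangle.obj T :=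
      { hom₁ := θ.hom.app (C.X b)
        hom₂ := φ
        hom₃ := c₀.hom
        comm₁ := hφ₁
        comm₂ := hφ₂
        comm₃ := sub_eq_zero.1 hΔ }
    have hiso : IsIso φ := isIso₂_of_isIso₁₃ χ (F.map_distinguished _ (topTri_distinguished C a b))
      (F'.map_distinguished _ (topTri_distinguished C a b)) (inferInstanceAs (IsIso (θ.hom.app (C.X b))))
      (inferInstanceAs (IsIso c₀.hom))
    exact ⟨@asIso _ _ _ _ φ hiso, hφ₁⟩

/-- Exact functors agreeing on the heart agree on objects. -/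
theorem nonempty_iso
    (h1 : Nonempty (DEquiv.singleB A ⋙ F ≅ DEquiv.singleB A ⋙ F'))
    (h2 : ∀ (X Y : A) (q : ℤ), q < 0 →
      ∀ f : F.obj ((DEquiv.singleB A).obj X) ⟶ (shiftFunctor D q).obj (F.obj ((DEquiv.singleB A).obj Y)), f = 0)
    (K : DerivedCategory.Bounded A) : Nonempty (F.obj K ≅ F'.obj K) := by
  obtain ⟨⟨a, ha⟩, ⟨b, hb⟩⟩ := K.property
  obtain ⟨C, _, _, ⟨e⟩⟩ := exists_iso_Q_obj_of_isGE_of_isLE K.obj a b
  obtain ⟨θ₀⟩ := h1
  let θ : sB A b ⋙ F ≅ sB A b ⋙ F' :=
    Functor.isoWhiskerRight (shiftSB A (-b) b 0 (by omega)).symm F ≪≫ Functor.associator _ _ _ ≪≫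
      Functor.isoWhiskerLeft _ (F.commShiftIso (-b)) ≪≫ (Functor.associator _ _ _).symm ≪≫
      Functor.isoWhiskerRight θ₀ _ ≪≫ Functor.associator _ _ _ ≪≫
      Functor.isoWhiskerLeft _ (F'.commShiftIso (-b)).symm ≪≫ (Functor.associator _ _ _).symm ≪≫
      Functor.isoWhiskerRight (shiftSB A (-b) b 0 (by omega)) F'
  obtain ⟨c, -⟩ := exists_iso_compat h2 ((b - a + 1).toNat) C a b (by omega) θ
  let e' : K ≅ qB C a b := (ObjectProperty.fullyFaithfulι _).preimageIso e
  exact ⟨F.mapIso e' ≪≫ c ≪≫ F'.mapIso e'.symm⟩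

end Groth.Agent.H02CA.Sib
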