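import Groth.Agent.H02CA.Sib.Basic
import Mathlib.Algebra.Homology.DerivedCategory.Fractions

/-!
# Maps into shifted objects are effaceable
-/

set_option autoImplicit false
set_option linter.style.haveILetI false

universe w v u

open CategoryTheory CategoryTheory.Limits CategoryTheory.Pretriangulated DerivedCategory

namespace Groth.Agent.H02CA.Sib

variable {A : Type u} [Category.{v} A] [Abelian A] [HasDerivedCategory.{w} A]

lemma epi_f_of_quasiIso {L : CochainComplex A ℤ} [L.IsStrictlyLE 0] {X : A}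
    (s : L ⟶ (HomologicalComplex.single A (ComplexShape.up ℤ) 0).obj X) [QuasiIsoAt s 0] : Epi (s.f 0) := by
  let M := (HomologicalComplex.single A (ComplexShape.up ℤ) 0).obj X
  haveI : IsIso (L.iCycles 0) :=
    L.isIso_iCycles 0 1 (by simp) ((L.isZero_of_isStrictlyLE 0 1 (by omega)).eq_of_tgt _ _)
  haveI : IsIso (M.homologyπ 0) := M.isIso_homologyπ (-1) 0 (by simp)
    ((HomologicalComplex.isZero_single_obj_X (ComplexShape.up ℤ) 0 X (-1) (by omega)).eq_of_src _ _)
  haveI : IsIso (M.iCycles 0) :=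
    M.isIso_iCycles 0 1 (by simp)
      ((HomologicalComplex.isZero_single_obj_X (ComplexShape.up ℤ) 0 X 1 (by omega)).eq_of_tgt _ _)
  haveI : IsIso (HomologicalComplex.homologyMap s 0) := inferInstance
  have e : s.f 0 = inv (L.iCycles 0) ≫ (L.homologyπ 0 ≫ HomologicalComplex.homologyMap s 0 ≫
      inv (M.homologyπ 0)) ≫ M.iCycles 0 := by
    rw [IsIso.eq_inv_comp, HomologicalComplex.homologyπ_naturality_assoc, IsIso.hom_inv_id, Category.comp_id,
      HomologicalComplex.cyclesMap_i]
  rw [e]
  infer_instance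

/-- Maps to an object in a negative degree vanish after an epimorphism. -/
theorem exists_epi_comp_eq_zero {X Y : A} (b : ℤ) (hb : b < 0)
    (φ : (sB A 0).obj X ⟶ (sB A b).obj Y) :
    ∃ (E : A) (p : E ⟶ X), Epi p ∧ (sB A 0).map p ≫ φ = 0 := by
  let φ' : Q.obj ((HomologicalComplex.single A (ComplexShape.up ℤ) 0).obj X) ⟶
      Q.obj ((HomologicalComplex.single A (ComplexShape.up ℤ) b).obj Y) := φ.hom
  obtain ⟨L, _, s, hs, g, hφ⟩ := right_fac_of_isStrictlyLE φ' 0
  haveI : QuasiIso s := (isIso_Q_map_iff_quasiIso A s).1 hs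
  haveI := epi_f_of_quasiIso s
  refine ⟨L.X 0, s.f 0 ≫ (HomologicalComplex.singleObjXSelf (ComplexShape.up ℤ) 0 X).hom, inferInstance, ?_⟩
  apply (Bounded.ι (C := A)).map_injective
  have h1 : (HomologicalComplex.single A (ComplexShape.up ℤ) 0).map
      (s.f 0 ≫ (HomologicalComplex.singleObjXSelf (ComplexShape.up ℤ) 0 X).hom) = topMap L 0 ≫ s := by
    apply HomologicalComplex.from_single_hom_ext
    simp [topMap, HomologicalComplex.single_map_f_self]
  have h2 : topMap L 0 ≫ g = 0 := by
    apply HomologicalComplex.from_single_hom_ext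
    exact (HomologicalComplex.isZero_single_obj_X (ComplexShape.up ℤ) b Y 0 (by omega)).eq_of_tgt _ _
  change Q.map ((HomologicalComplex.single A (ComplexShape.up ℤ) 0).map _) ≫ φ' =
    (0 : Q.obj ((HomologicalComplex.single A (ComplexShape.up ℤ) 0).obj (L.X 0)) ⟶ _)
  rw [h1, hφ, Functor.map_comp, Category.assoc, IsIso.hom_inv_id_assoc, ← Functor.map_comp, h2, Functor.map_zero]

end Groth.Agent.H02CA.Sib
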