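import Groth.Agent.H02CA.Sib.Efface
import Mathlib.Algebra.Homology.DerivedCategory.SingleTriangle

/-!
# A sibling of a fully faithful functor is fully faithful
-/

set_option autoImplicit false
set_option linter.style.haveILetI false

universe w v u v' u'

open CategoryTheory CategoryTheory.Limits CategoryTheory.Pretriangulated DerivedCategory

namespace Groth.Agent.H02CA.Sib

variable {A : Type u} [Category.{v} A] [Abelian A] [HasDerivedCategory.{w} A]
  {D : Type u'} [Category.{v'} D] [Preadditive D] [HasZeroObject D] [HasShift D ℤ]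
  [∀ n : ℤ, (shiftFunctor D n).Additive] [Pretriangulated D]

/-- A morphism compatible with chosen isomorphisms. -/
def Compat (F F' : DerivedCategory.Bounded A ⥤ D) {P Q : DerivedCategory.Bounded A}
    (cP : F.obj P ≅ F'.obj P) (cQ : F.obj Q ≅ F'.obj Q) (φ : P ⟶ Q) : Prop :=
  F.map φ ≫ cQ.hom = cP.hom ≫ F'.map φ

lemma Compat.comp {F F' : DerivedCategory.Bounded A ⥤ D} {P Q R : DerivedCategory.Bounded A}
    {cP : F.obj P ≅ F'.obj P} {cQ : F.obj Q ≅ F'.obj Q} {cR : F.obj R ≅ F'.obj R} {φ : P ⟶ Q} {ψ : Q ⟶ R}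
    (h : Compat F F' cP cQ φ) (h' : Compat F F' cQ cR ψ) : Compat F F' cP cR (φ ≫ ψ) := by
  unfold Compat at *
  rw [Functor.map_comp, Functor.map_comp, Category.assoc, h', ← Category.assoc, h, Category.assoc]

/-- Bijectivity on one set of morphisms. -/
def Bij (G : DerivedCategory.Bounded A ⥤ D) (P Q : DerivedCategory.Bounded A) : Prop :=
  Function.Bijective (G.map : (P ⟶ Q) → (G.obj P ⟶ G.obj Q))

lemma bij_of_compat {F F' : DerivedCategory.Bounded A ⥤ D} [F.Full] [F.Faithful] {P Q : DerivedCategory.Bounded A}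
    (cP : F.obj P ≅ F'.obj P) (cQ : F.obj Q ≅ F'.obj Q) (h : ∀ φ : P ⟶ Q, Compat F F' cP cQ φ) : Bij F' P Q := by
  refine ⟨fun a b hab => F.map_injective ?_, fun y => ⟨F.preimage (cP.hom ≫ y ≫ cQ.inv), ?_⟩⟩
  · rw [← cancel_mono cQ.hom, h a, h b, hab]
  · rw [← cancel_epi cP.hom, ← h, Functor.map_preimage, Category.assoc, Category.assoc, Iso.inv_hom_id,
      Category.comp_id]

lemma Bij.of_iso {G : DerivedCategory.Bounded A ⥤ D} {P P' Q Q' : DerivedCategory.Bounded A} (h : Bij G P Q)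
    (e : P ≅ P') (e' : Q ≅ Q') : Bij G P' Q' := by
  have he : (G.map : (P' ⟶ Q') → _) = (Iso.homCongr (G.mapIso e) (G.mapIso e')) ∘ G.map ∘ (Iso.homCongr e e').symm := by
    funext φ
    simp [Iso.homCongr, Functor.map_comp]
  rw [Bij, he]
  exact (Equiv.bijective _).comp (h.comp (Equiv.bijective _))

variable {F F' : DerivedCategory.Bounded A ⥤ D} [F.CommShift ℤ] [F.IsTriangulated] [F'.CommShift ℤ] [F'.IsTriangulated]

omit [F.IsTriangulated] [F'.IsTriangulated] in
/-- The shifted isomorphism. -/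
noncomputable def shC (n : ℤ) {Q : DerivedCategory.Bounded A} (c : F.obj Q ≅ F'.obj Q) :
    F.obj ((shiftFunctor (DerivedCategory.Bounded A) n).obj Q) ≅
      F'.obj ((shiftFunctor (DerivedCategory.Bounded A) n).obj Q) :=
  (F.commShiftIso n).app Q ≪≫ (shiftFunctor D n).mapIso c ≪≫ (F'.commShiftIso n).symm.app Q

omit [F.IsTriangulated] [F'.IsTriangulated] in
lemma Compat.shift (n : ℤ) {P Q : DerivedCategory.Bounded A} {cP : F.obj P ≅ F'.obj P} {cQ : F.obj Q ≅ F'.obj Q}
    {φ : P ⟶ Q} (h : Compat F F' cP cQ φ) :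
    Compat F F' (shC n cP) (shC n cQ) ((shiftFunctor (DerivedCategory.Bounded A) n).map φ) := by
  have h1 := (F.commShiftIso n).hom.naturality φ
  have h2 := (F'.commShiftIso n).inv.naturality φ
  have h' := congrArg (shiftFunctor D n).map h
  simp only [Functor.map_comp, Functor.comp_map] at h' h1 h2
  simp only [Compat, shC, Iso.trans_hom, Iso.app_hom, Iso.symm_hom, Functor.mapIso_hom, Functor.comp_obj,
    Category.assoc]
  rw [reassoc_of% h1, reassoc_of% h', h2]

omit [F.IsTriangulated] [F'.IsTriangulated] in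
lemma compat_zero (n : ℤ) (hn : n = 0) {Q : DerivedCategory.Bounded A} (c : F.obj Q ≅ F'.obj Q) :
    Compat F F' c (shC n c) ((shiftFunctorZero' (DerivedCategory.Bounded A) n hn).inv.app Q) := by
  subst hn
  simp [Compat, shC, Functor.commShiftIso_zero, shiftFunctorZero', ← Functor.map_comp_assoc, ← Functor.map_comp]

omit [F.IsTriangulated] [F'.IsTriangulated] in
lemma compat_add (a b c' : ℤ) (h : a + b = c') {Q : DerivedCategory.Bounded A} (c : F.obj Q ≅ F'.obj Q) :
    Compat F F' (shC b (shC a c)) (shC c' c) ((shiftFunctorAdd' (DerivedCategory.Bounded A) a b c' h).inv.app Q) := by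
  simp [Compat, shC, F.commShiftIso_add' h, F'.commShiftIso_add' h, Functor.CommShift.isoAdd',
    ← Functor.map_comp_assoc, ← Functor.map_comp]

omit [F'.CommShift ℤ] [F'.IsTriangulated] [F.IsTriangulated] in
lemma hom_eq_zero_of_lt {X Y : A} {a c : ℤ} (h : a < c) (φ : (sB A a).obj X ⟶ (sB A c).obj Y) : φ = 0 := by
  apply (Bounded.ι (C := A)).map_injective
  haveI : DerivedCategory.TStructure.t.IsLE ((Bounded.ι (C := A)).obj ((sB A a).obj X)) a :=
    inferInstanceAs (((DerivedCategory.singleFunctor A a).obj X).IsLE a)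
  haveI : DerivedCategory.TStructure.t.IsGE ((Bounded.ι (C := A)).obj ((sB A c).obj Y)) c :=
    inferInstanceAs (((DerivedCategory.singleFunctor A c).obj Y).IsGE c)
  rw [DerivedCategory.TStructure.t.zero ((Bounded.ι (C := A)).map φ) a c h, Functor.map_zero]

/-- The triangle of an epimorphism. -/
noncomputable def epiTri {E X : A} (p : E ⟶ X) [Epi p] : Triangle (DerivedCategory.Bounded A) :=
  let hS : (ShortComplex.mk (kernel.ι p) p (kernel.condition p)).ShortExact :=
    { exact := ShortComplex.exact_of_f_is_kernel _ (kernelIsKernel p) }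
  Triangle.mk ((sB A 0).map (kernel.ι p)) ((sB A 0).map p)
    ((Bounded.ι (C := A)).preimage (hS.singleδ ≫
      ((Bounded.ι (C := A)).commShiftIso (1 : ℤ)).inv.app ((sB A 0).obj (kernel p))))

lemma epiTri_distinguished {E X : A} (p : E ⟶ X) [Epi p] : epiTri p ∈ distTriang (DerivedCategory.Bounded A) := by
  have hS : (ShortComplex.mk (kernel.ι p) p (kernel.condition p)).ShortExact :=
    { exact := ShortComplex.exact_of_f_is_kernel _ (kernelIsKernel p) }
  rw [← (Bounded.ι (C := A)).map_distinguished_iff]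
  refine isomorphic_distinguished _ hS.singleTriangle_distinguished _
    (Triangle.isoMk _ _ (Iso.refl _) (Iso.refl _) (Iso.refl _)
      ((Category.comp_id _).trans (Category.id_comp _).symm)
      ((Category.comp_id _).trans (Category.id_comp _).symm) ?_)
  change ((Bounded.ι (C := A)).map ((Bounded.ι (C := A)).preimage _) ≫
    ((Bounded.ι (C := A)).commShiftIso (1 : ℤ)).hom.app _) ≫ _ = _
  rw [Functor.map_preimage]
  erw [Category.assoc, Category.assoc, Iso.inv_hom_id_app_assoc, CategoryTheory.Functor.map_id]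
  exact (Category.comp_id _).trans (Category.id_comp _).symm

/-- Compatibility on all maps between shifted objects of the heart. -/
theorem compat_single [F.Full] [F.Faithful] (θ : sB A 0 ⋙ F ≅ sB A 0 ⋙ F') (m : ℕ) :
    ∀ (X Y : A) (f : (sB A 0).obj X ⟶ (shiftFunctor (DerivedCategory.Bounded A) (m : ℤ)).obj ((sB A 0).obj Y)),
      Compat F F' (θ.app X) (shC (m : ℤ) (θ.app Y)) f := by
  induction m with
  | zero =>
    intro X Y f
    obtain ⟨g, hg⟩ := (sB A 0).map_surjective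
      (f ≫ (shiftFunctorZero' (DerivedCategory.Bounded A) ((0 : ℕ) : ℤ) (by simp)).hom.app _)
    have hf : f = (sB A 0).map g ≫
        (shiftFunctorZero' (DerivedCategory.Bounded A) ((0 : ℕ) : ℤ) (by simp)).inv.app _ := by
      rw [hg, Category.assoc]
      erw [Iso.hom_inv_id_app]
      exact (Category.comp_id _).symm
    rw [hf]
    exact Compat.comp (cQ := θ.app Y)
      (θ.hom.naturality g : Compat F F' (θ.app X) (θ.app Y) ((sB A 0).map g)) (compat_zero _ (by simp) _)
  | succ m ih =>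
    intro X Y f
    let ε := shiftSB A ((m + 1 : ℕ) : ℤ) (-((m + 1 : ℕ) : ℤ)) 0 (by omega)
    obtain ⟨E, p, hp, hpf⟩ := exists_epi_comp_eq_zero (-((m + 1 : ℕ) : ℤ)) (by omega) (f ≫ ε.hom.app Y)
    have hpf' : (sB A 0).map p ≫ f = 0 := by
      rw [← cancel_mono (ε.hom.app Y), zero_comp, Category.assoc]
      exact hpf
    let T := epiTri p
    have hT := epiTri_distinguished p
    obtain ⟨g, hg⟩ : ∃ g : (shiftFunctor (DerivedCategory.Bounded A) (1 : ℤ)).obj T.obj₁ ⟶ _, f = T.mor₃ ≫ g :=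
      Triangle.yoneda_exact₃ T hT f hpf'
    have hadd : ((m : ℕ) : ℤ) + 1 = ((m + 1 : ℕ) : ℤ) := by push_cast; rfl
    let α := shiftFunctorAdd' (DerivedCategory.Bounded A) (m : ℤ) 1 ((m + 1 : ℕ) : ℤ) hadd
    obtain ⟨g₀, hg₀⟩ := (shiftFunctor (DerivedCategory.Bounded A) (1 : ℤ)).map_surjective (g ≫ α.hom.app _)
    have hg' : g = (shiftFunctor (DerivedCategory.Bounded A) (1 : ℤ)).map g₀ ≫ α.inv.app _ := by
      rw [hg₀, Category.assoc, Iso.hom_inv_id_app]
      exact (Category.comp_id _).symm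
    have hc₁ := F.map_distinguished T hT
    obtain ⟨ψ, hψ₂, hψ₃⟩ : ∃ ψ : F.obj T.obj₃ ⟶ F'.obj T.obj₃,
        F.map T.mor₂ ≫ ψ = θ.hom.app E ≫ F'.map T.mor₂ ∧
        (F.map T.mor₃ ≫ (F.commShiftIso (1 : ℤ)).hom.app T.obj₁) ≫
          (shiftFunctor D (1 : ℤ)).map (θ.hom.app (kernel p)) =
            ψ ≫ F'.map T.mor₃ ≫ (F'.commShiftIso (1 : ℤ)).hom.app T.obj₁ :=
      complete_distinguished_triangle_morphism (F.mapTriangle.obj T) (F'.mapTriangle.obj T)
      hc₁ (F'.map_distinguished T hT) (θ.hom.app (kernel p)) (θ.hom.app E) (θ.hom.naturality (kernel.ι p))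
    have hψ : ψ = θ.hom.app X := by
      let θX : F.obj T.obj₃ ⟶ F'.obj T.obj₃ := θ.hom.app X
      let d : F.obj T.obj₃ ⟶ F'.obj T.obj₃ := ψ - θX
      have hd : F.map T.mor₂ ≫ d = 0 := by
        refine (Preadditive.comp_sub _ _ _).trans (sub_eq_zero.2 ?_)
        exact hψ₂.trans (θ.hom.naturality p).symm
      obtain ⟨k, hk⟩ : ∃ k : (shiftFunctor D (1 : ℤ)).obj (F.obj T.obj₁) ⟶ F'.obj T.obj₃,
          d = (F.mapTriangle.obj T).mor₃ ≫ k :=
        Triangle.yoneda_exact₃ _ hc₁ d hd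
      have hk0 : k = 0 := by
        let e₁ : F.obj ((sB A (-1)).obj (kernel p)) ≅ (shiftFunctor D (1 : ℤ)).obj (F.obj T.obj₁) :=
          F.mapIso ((shiftSB A 1 (-1) 0 (by omega)).app _).symm ≪≫ (F.commShiftIso (1 : ℤ)).app _
        obtain ⟨k₀, hk₀⟩ := F.map_surjective (e₁.hom ≫ k ≫ (θ.app X).inv)
        rw [hom_eq_zero_of_lt (by omega : (-1 : ℤ) < 0) k₀, Functor.map_zero] at hk₀
        refine (cancel_epi e₁.hom).1 ((cancel_mono (θ.app X).inv).1 ?_)
        refine (Category.assoc _ _ _).trans (hk₀.symm.trans ?_)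
        rw [comp_zero]
        exact zero_comp.symm
      have hd0 : d = 0 := hk.trans ((congrArg (_ ≫ ·) hk0).trans comp_zero)
      exact sub_eq_zero.1 hd0
    have hδ : Compat F F' (θ.app X) (shC 1 (θ.app (kernel p))) T.mor₃ := by
      have h : (F.map T.mor₃ ≫ (F.commShiftIso (1 : ℤ)).hom.app T.obj₁) ≫
          (shiftFunctor D (1 : ℤ)).map (θ.hom.app (kernel p)) =
          θ.hom.app X ≫ F'.map T.mor₃ ≫ (F'.commShiftIso (1 : ℤ)).hom.app T.obj₁ := hψ ▸ hψ₃
      change F.map T.mor₃ ≫ (F.commShiftIso (1 : ℤ)).hom.app T.obj₁ ≫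
        (shiftFunctor D (1 : ℤ)).map (θ.hom.app (kernel p)) ≫ (F'.commShiftIso (1 : ℤ)).inv.app T.obj₁ =
          θ.hom.app X ≫ F'.map T.mor₃
      rw [← Category.assoc, ← Category.assoc, h]
      refine (Category.assoc _ _ _).trans (congrArg (θ.hom.app X ≫ ·) ?_)
      erw [Category.assoc, Iso.hom_inv_id_app]
      exact Category.comp_id _
    rw [hg, hg']
    exact hδ.comp ((Compat.shift 1 (ih (kernel p) Y g₀)).comp (compat_add _ _ _ hadd _))

/-- Bijectivity between shifted objects of the heart. -/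
theorem bij_single [F.Full] [F.Faithful] (θ : sB A 0 ⋙ F ≅ sB A 0 ⋙ F') (X Y : A) (n : ℤ) :
    Bij F' ((sB A 0).obj X) ((shiftFunctor (DerivedCategory.Bounded A) n).obj ((sB A 0).obj Y)) := by
  refine bij_of_compat (θ.app X) (shC n (θ.app Y)) fun φ => ?_
  rcases Int.eq_nat_or_neg n with ⟨m, rfl | rfl⟩
  · exact compat_single θ m X Y φ
  · rcases Nat.eq_zero_or_pos m with rfl | hm
    · exact compat_single θ 0 X Y φ
    · let ε := shiftSB A (-(m : ℤ)) (m : ℤ) 0 (by omega)
      have h0 : φ = 0 := by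
        rw [← cancel_mono (ε.hom.app Y), zero_comp]
        exact hom_eq_zero_of_lt (by omega) _
      rw [h0, Compat, Functor.map_zero, Functor.map_zero, zero_comp, comp_zero]

/-- Dévissage of bounded objects. -/
theorem bounded_induction (Pr : DerivedCategory.Bounded A → Prop)
    (hiso : ∀ {P Q : DerivedCategory.Bounded A}, (P ≅ Q) → Pr P → Pr Q)
    (hzero : ∀ {P : DerivedCategory.Bounded A}, IsZero P → Pr P)
    (hsingle : ∀ X : A, Pr ((sB A 0).obj X))
    (hshift : ∀ (n : ℤ) {P : DerivedCategory.Bounded A}, Pr P →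
      Pr ((shiftFunctor (DerivedCategory.Bounded A) n).obj P))
    (htri : ∀ T ∈ distTriang (DerivedCategory.Bounded A), Pr T.obj₁ → Pr T.obj₃ → Pr T.obj₂)
    (K : DerivedCategory.Bounded A) : Pr K := by
  obtain ⟨⟨a, ha⟩, ⟨b, hb⟩⟩ := K.property
  obtain ⟨C, _, _, ⟨e⟩⟩ := exists_iso_Q_obj_of_isGE_of_isLE K.obj a b
  let e' : (Bounded.ι (C := A)).obj K ≅ (Bounded.ι (C := A)).obj (qB C a b) := e
  refine hiso ((ObjectProperty.fullyFaithfulι _).preimageIso e').symm ?_
  suffices key : ∀ (n : ℕ) (C : CochainComplex A ℤ) (a b : ℤ) [C.IsStrictlyGE a] [C.IsStrictlyLE b],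
      b < a + n → Pr (qB C a b) from key ((b - a + 1).toNat) C a b (by omega)
  intro n
  induction n with
  | zero =>
    intro C a b _ _ h
    refine hzero ((IsZero.iff_id_eq_zero _).2 ((Bounded.ι (C := A)).map_injective ?_))
    have hC : IsZero C := by
      rw [IsZero.iff_id_eq_zero]
      ext i
      rcases lt_or_ge i a with hi | hi
      · exact (C.isZero_of_isStrictlyGE a i hi).eq_of_src _ _
      · exact (C.isZero_of_isStrictlyLE b i (by omega)).eq_of_src _ _
    exact (Q.map_isZero hC).eq_of_src _ _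
  | succ n ih =>
    intro C a b _ _ h
    haveI := lowCx_isStrictlyGE C a b
    haveI := lowCx_isStrictlyLE C b
    exact htri _ (topTri_distinguished C a b)
      (hiso ((shiftSB A (-b) b 0 (by omega)).app _) (hshift (-b) (hsingle (C.X b))))
      (ih (lowCx C b) a (b - 1) (by push_cast at h ⊢; omega))

omit [F.CommShift ℤ] [F.IsTriangulated] in
lemma bij_shift {P Q : DerivedCategory.Bounded A} (n : ℤ) (h : Bij F' P Q) :
    Bij F' ((shiftFunctor (DerivedCategory.Bounded A) n).obj P)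
      ((shiftFunctor (DerivedCategory.Bounded A) n).obj Q) := by
  let e : ∀ R, F'.obj ((shiftFunctor (DerivedCategory.Bounded A) n).obj R) ≅
      (shiftFunctor D n).obj (F'.obj R) := fun R => (F'.commShiftIso n).app R
  have he : (F'.map ∘ (shiftFunctor (DerivedCategory.Bounded A) n).map : (P ⟶ Q) → _) =
      (Iso.homCongr (e P).symm (e Q).symm) ∘ (shiftFunctor D n).map ∘ F'.map := by
    funext φ
    simp only [Function.comp_apply, Iso.homCongr_apply, Iso.symm_inv, Iso.symm_hom, e, Iso.app_hom, Iso.app_inv]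
    have := (F'.commShiftIso n).hom.naturality φ
    simp only [Functor.comp_map] at this
    rw [← reassoc_of% this, Iso.hom_inv_id_app]
    exact (Category.comp_id _).symm
  have h1 : Function.Bijective (F'.map ∘ (shiftFunctor (DerivedCategory.Bounded A) n).map : (P ⟶ Q) → _) := by
    rw [he]
    exact (Equiv.bijective _).comp
      (((Functor.FullyFaithful.ofFullyFaithful (shiftFunctor D n)).map_bijective _ _).comp h)
  exact (Function.Bijective.of_comp_iff _
    ((Functor.FullyFaithful.ofFullyFaithful (shiftFunctor (DerivedCategory.Bounded A) n)).map_bijective _ _)).1 h1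

omit [F.CommShift ℤ] [F.IsTriangulated] in
lemma bij_target {W : DerivedCategory.Bounded A} (T : Triangle (DerivedCategory.Bounded A))
    (hT : T ∈ distTriang _) (h₀ : Bij F' W T.invRotate.obj₁) (h₁ : Bij F' W T.obj₁) (h₃ : Bij F' W T.obj₃)
    (h₄ : Bij F' W ((shiftFunctor (DerivedCategory.Bounded A) (1 : ℤ)).obj T.obj₁)) : Bij F' W T.obj₂ := by
  have hFT := F'.map_distinguished T hT
  have hi := inv_rot_of_distTriang _ hT
  have hFi := F'.map_distinguished _ hi
  have hinj : ∀ a : W ⟶ T.obj₂, F'.map a = 0 → a = 0 := by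
    intro a ha
    obtain ⟨g, hg⟩ := Triangle.coyoneda_exact₂ T hT a
      (h₃.injective (by rw [F'.map_comp, ha, zero_comp, F'.map_zero]))
    obtain ⟨h', hh'⟩ : ∃ h' : F'.obj W ⟶ F'.obj T.invRotate.obj₁, F'.map g = h' ≫ F'.map T.invRotate.mor₁ :=
      Triangle.coyoneda_exact₂ _ hFi (F'.map g) (by
        change F'.map g ≫ F'.map T.mor₁ = 0
        rw [← F'.map_comp, ← hg, ha])
    obtain ⟨h₀', rfl⟩ := h₀.surjective h'
    have hg0 : g = h₀' ≫ T.invRotate.mor₁ := h₁.injective (hh'.trans (F'.map_comp _ _).symm)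
    rw [hg, hg0]
    exact (Category.assoc _ _ _).trans ((congrArg (h₀' ≫ ·) (comp_distTriang_mor_zero₁₂ _ hi)).trans comp_zero)
  refine ⟨fun a b hab => sub_eq_zero.1 (hinj _ (by rw [F'.map_sub, hab, sub_self])), fun y => ?_⟩
  obtain ⟨c, hc⟩ := h₃.surjective (y ≫ F'.map T.mor₂)
  have hc0 : c ≫ T.mor₃ = 0 := h₄.injective (by
    rw [F'.map_comp, F'.map_zero, hc, Category.assoc, ← F'.map_comp, comp_distTriang_mor_zero₂₃ _ hT, F'.map_zero,
      comp_zero])
  obtain ⟨f₁, rfl⟩ := Triangle.coyoneda_exact₃ T hT c hc0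
  obtain ⟨h', hh'⟩ : ∃ h' : F'.obj W ⟶ F'.obj T.obj₁, y - F'.map f₁ = h' ≫ F'.map T.mor₁ :=
    Triangle.coyoneda_exact₂ _ hFT (y - F'.map f₁) (by
      change (y - F'.map f₁) ≫ F'.map T.mor₂ = 0
      rw [Preadditive.sub_comp, ← F'.map_comp, hc, sub_self])
  obtain ⟨g, rfl⟩ := h₁.surjective h'
  refine ⟨f₁ + g ≫ T.mor₁, ?_⟩
  rw [F'.map_add, F'.map_comp, ← hh', add_sub_cancel]

omit [F.CommShift ℤ] [F.IsTriangulated] in
lemma bij_source {Z : DerivedCategory.Bounded A} (T : Triangle (DerivedCategory.Bounded A))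
    (hT : T ∈ distTriang _) (h₀ : Bij F' T.invRotate.obj₁ Z) (h₁ : Bij F' T.obj₁ Z) (h₃ : Bij F' T.obj₃ Z)
    (h₄ : Bij F' ((shiftFunctor (DerivedCategory.Bounded A) (1 : ℤ)).obj T.obj₁) Z) : Bij F' T.obj₂ Z := by
  have hFT := F'.map_distinguished T hT
  have hr := rot_of_distTriang _ hT
  have hFr := F'.map_distinguished _ hr
  have hi := inv_rot_of_distTriang _ hT
  have hinj : ∀ a : T.obj₂ ⟶ Z, F'.map a = 0 → a = 0 := by
    intro a ha
    obtain ⟨g, hg⟩ := Triangle.yoneda_exact₂ T hT a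
      (h₁.injective (by rw [F'.map_comp, ha, comp_zero, F'.map_zero]))
    obtain ⟨h', hh'⟩ : ∃ h' : F'.obj T.rotate.obj₃ ⟶ F'.obj Z, F'.map g = F'.map T.rotate.mor₂ ≫ h' :=
      Triangle.yoneda_exact₂ _ hFr (F'.map g) (by
        change F'.map T.mor₂ ≫ F'.map g = 0
        rw [← F'.map_comp, ← hg, ha])
    obtain ⟨h₄', rfl⟩ := h₄.surjective h'
    have hg0 : g = T.rotate.mor₂ ≫ h₄' := h₃.injective (hh'.trans (F'.map_comp _ _).symm)
    rw [hg, hg0]
    exact (Category.assoc _ _ _).symm.trans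
      ((congrArg (· ≫ h₄') (comp_distTriang_mor_zero₁₂ _ hr)).trans zero_comp)
  refine ⟨fun a b hab => sub_eq_zero.1 (hinj _ (by rw [F'.map_sub, hab, sub_self])), fun y => ?_⟩
  obtain ⟨c, hc⟩ := h₁.surjective (F'.map T.mor₁ ≫ y)
  have hc0 : T.invRotate.mor₁ ≫ c = 0 := h₀.injective (by
    rw [F'.map_comp, F'.map_zero]
    refine (congrArg (F'.map T.invRotate.mor₁ ≫ ·) hc).trans ((Category.assoc _ _ _).symm.trans ?_)
    refine (congrArg (· ≫ y) ((F'.map_comp _ _).symm.trans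
      ((congrArg F'.map (comp_distTriang_mor_zero₁₂ _ hi)).trans (F'.map_zero _ _)))).trans zero_comp)
  obtain ⟨f₁, hf₁⟩ : ∃ f₁ : T.obj₂ ⟶ Z, c = T.mor₁ ≫ f₁ := Triangle.yoneda_exact₂ T.invRotate hi c hc0
  obtain ⟨h', hh'⟩ : ∃ h' : F'.obj T.obj₃ ⟶ F'.obj Z, y - F'.map f₁ = F'.map T.mor₂ ≫ h' :=
    Triangle.yoneda_exact₂ _ hFT (y - F'.map f₁) (by
      change F'.map T.mor₁ ≫ (y - F'.map f₁) = 0
      rw [Preadditive.comp_sub, ← F'.map_comp, ← hf₁, hc, sub_self])
  obtain ⟨g, rfl⟩ := h₃.surjective h'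
  refine ⟨f₁ + T.mor₂ ≫ g, ?_⟩
  rw [F'.map_add, F'.map_comp, ← hh', add_sub_cancel]

/-- A sibling of a fully faithful functor is fully faithful. -/
theorem full_faithful_of_sibling [F.Full] [F.Faithful]
    (h1 : Nonempty (DEquiv.singleB A ⋙ F ≅ DEquiv.singleB A ⋙ F')) : F'.Full ∧ F'.Faithful := by
  obtain ⟨θ⟩ := h1
  let Sh := fun n : ℤ => shiftFunctor (DerivedCategory.Bounded A) n
  have hbz : ∀ {P Q : DerivedCategory.Bounded A}, IsZero P ∨ IsZero Q → Bij F' P Q := fun {P Q} h => by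
    rcases h with h | h
    · exact ⟨fun a b _ => h.eq_of_src a b, fun y => ⟨0, (F'.map_isZero h).eq_of_src _ _⟩⟩
    · exact ⟨fun a b _ => h.eq_of_tgt a b, fun y => ⟨0, (F'.map_isZero h).eq_of_tgt _ _⟩⟩
  have h1 : ∀ (Q : DerivedCategory.Bounded A) (X : A) (n : ℤ), Bij F' ((sB A 0).obj X) ((Sh n).obj Q) := by
    refine bounded_induction (fun Q => ∀ (X : A) (n : ℤ), Bij F' ((sB A 0).obj X) ((Sh n).obj Q))
      (fun e h X n => (h X n).of_iso (Iso.refl _) ((Sh n).mapIso e))
      (fun h X n => hbz (Or.inr ((Sh n).map_isZero h))) (fun Y X n => bij_single θ X Y n)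
      (fun m P h X n => (h X (m + n)).of_iso (Iso.refl _) ((shiftFunctorAdd' _ m n (m + n) rfl).app P))
      fun T hT h₁ h₃ X n => ?_
    have hTn := Triangle.shift_distinguished T hT n
    exact bij_target _ hTn
      ((h₃ X (n + (-1))).of_iso (Iso.refl _) ((shiftFunctorAdd' _ n (-1) (n + (-1)) rfl).app T.obj₃))
      (h₁ X n) (h₃ X n)
      ((h₁ X (n + 1)).of_iso (Iso.refl _) ((shiftFunctorAdd' _ n 1 (n + 1) rfl).app T.obj₁))
  have h2 : ∀ (P Q : DerivedCategory.Bounded A), Bij F' P Q := by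
    refine bounded_induction (fun P => ∀ Q, Bij F' P Q) (fun e h Q => (h Q).of_iso e (Iso.refl _))
      (fun h Q => hbz (Or.inl h)) (fun X Q => (h1 Q X 0).of_iso (Iso.refl _) ((shiftFunctorZero _ ℤ).app Q))
      (fun n P h Q => (bij_shift n (h ((Sh (-n)).obj Q))).of_iso (Iso.refl _)
        ((shiftFunctorCompIsoId _ (-n) n (by omega)).app Q))
      fun T hT h₁ h₃ Q => ?_
    have hs : ∀ (n : ℤ) (P : DerivedCategory.Bounded A), (∀ Q, Bij F' P Q) → ∀ Q, Bij F' ((Sh n).obj P) Q :=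
      fun n P h Q => (bij_shift n (h ((Sh (-n)).obj Q))).of_iso (Iso.refl _)
        ((shiftFunctorCompIsoId _ (-n) n (by omega)).app Q)
    exact bij_source T hT (hs (-1) _ h₃ Q) (h₁ Q) (h₃ Q) (hs 1 _ h₁ Q)
  exact ⟨⟨fun {P Q} => (h2 P Q).surjective⟩, ⟨fun {P Q} => @(h2 P Q).injective⟩⟩

end Groth.Agent.H02CA.Sib
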