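import Groth.Agent.H02CA.Sib.Efface

/-!
# Negative objects mapping onto top cohomology
-/

set_option autoImplicit false
set_option linter.style.haveILetI false

universe w v u

open CategoryTheory CategoryTheory.Limits DerivedCategory

namespace Groth.Agent.H02CA.Sib

variable {A : Type u} [Category.{v} A] [Abelian A] [HasDerivedCategory.{w} A]

omit [HasDerivedCategory.{w} A] in
lemma isIso_iCycles_top (L : CochainComplex A ℤ) (b : ℤ) [L.IsStrictlyLE b] : IsIso (L.iCycles b) :=
  L.isIso_iCycles b (b + 1) (by simp) ((L.isZero_of_isStrictlyLE b (b + 1) (by omega)).eq_of_tgt _ _)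

omit [HasDerivedCategory.{w} A] in
lemma epi_homologyMap_top {L M : CochainComplex A ℤ} (φ : L ⟶ M) (b : ℤ) [L.IsStrictlyLE b] [M.IsStrictlyLE b]
    [Epi (φ.f b)] : Epi (HomologicalComplex.homologyMap φ b) := by
  haveI := isIso_iCycles_top L b
  haveI := isIso_iCycles_top M b
  haveI : Epi (HomologicalComplex.cyclesMap φ b) := by
    have e : HomologicalComplex.cyclesMap φ b = L.iCycles b ≫ φ.f b ≫ inv (M.iCycles b) := by
      rw [← Category.assoc, IsIso.eq_comp_inv, HomologicalComplex.cyclesMap_i]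
    rw [e]
    infer_instance
  haveI : Epi (L.homologyπ b ≫ HomologicalComplex.homologyMap φ b) := by
    rw [HomologicalComplex.homologyπ_naturality]
    infer_instance
  exact epi_of_epi (L.homologyπ b) _

/-- Maps from an object in a degree above the amplitude vanish after an epimorphism. -/
theorem exists_epi_comp_eq_zero_of_isLE {P : A} (b : ℤ) (X' : DerivedCategory A) [X'.IsLE (b - 1)]
    (φ : (singleFunctor A b).obj P ⟶ X') :
    ∃ (E : A) (p : E ⟶ P), Epi p ∧ (singleFunctor A b).map p ≫ φ = 0 := by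
  obtain ⟨C, _, ⟨e⟩⟩ := exists_iso_Q_obj_of_isLE X' (b - 1)
  let φ' : Q.obj ((HomologicalComplex.single A (ComplexShape.up ℤ) b).obj P) ⟶ Q.obj C := φ ≫ e.hom
  obtain ⟨L, _, s, hs, g, hφ⟩ := right_fac_of_isStrictlyLE φ' b
  haveI : QuasiIso s := (isIso_Q_map_iff_quasiIso A s).1 hs
  let M := (HomologicalComplex.single A (ComplexShape.up ℤ) b).obj P
  haveI := isIso_iCycles_top L b
  haveI : IsIso (M.homologyπ b) := M.isIso_homologyπ (b - 1) b (by simp)
    ((HomologicalComplex.isZero_single_obj_X (ComplexShape.up ℤ) b P (b - 1) (by omega)).eq_of_src _ _)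
  haveI := isIso_iCycles_top M b
  haveI : IsIso (HomologicalComplex.homologyMap s b) := inferInstance
  haveI : Epi (s.f b) := by
    have e : s.f b = inv (L.iCycles b) ≫ (L.homologyπ b ≫ HomologicalComplex.homologyMap s b ≫
        inv (M.homologyπ b)) ≫ M.iCycles b := by
      rw [IsIso.eq_inv_comp, HomologicalComplex.homologyπ_naturality_assoc, IsIso.hom_inv_id, Category.comp_id,
        HomologicalComplex.cyclesMap_i]
    rw [e]
    infer_instance
  refine ⟨L.X b, s.f b ≫ (HomologicalComplex.singleObjXSelf (ComplexShape.up ℤ) b P).hom, inferInstance, ?_⟩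
  have h1 : (HomologicalComplex.single A (ComplexShape.up ℤ) b).map
      (s.f b ≫ (HomologicalComplex.singleObjXSelf (ComplexShape.up ℤ) b P).hom) = topMap L b ≫ s := by
    apply HomologicalComplex.from_single_hom_ext
    simp [topMap, HomologicalComplex.single_map_f_self]
  have h2 : topMap L b ≫ g = 0 := by
    apply HomologicalComplex.from_single_hom_ext
    exact (C.isZero_of_isStrictlyLE (b - 1) b (by omega)).eq_of_tgt _ _
  have hz : Q.map ((HomologicalComplex.single A (ComplexShape.up ℤ) b).map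
      (s.f b ≫ (HomologicalComplex.singleObjXSelf (ComplexShape.up ℤ) b P).hom)) ≫ φ' = 0 := by
    rw [h1, hφ, Functor.map_comp, Category.assoc, IsIso.hom_inv_id_assoc, ← Functor.map_comp, h2, Functor.map_zero]
  rw [← cancel_mono e.hom, zero_comp, Category.assoc]
  exact hz

/-- Negative objects mapping onto top cohomology, avoiding a given object. -/
theorem exists_negative'
    (hneg : ∀ X : A, ∃ (N : A) (p : N ⟶ X), Epi p ∧ ∀ f : X ⟶ N, f = 0)
    (X X' : DerivedCategory A) (f : X ⟶ X') (Z : A) (b : ℤ) [X.IsLE b] [X'.IsLE (b - 1)] :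
    ∃ (N : A) (g : (singleFunctor A b).obj N ⟶ X),
      Epi ((homologyFunctor A b).map g) ∧
        (∀ φ : (homologyFunctor A b).obj X ⟶ N, φ = 0) ∧ (∀ φ : Z ⟶ N, φ = 0) ∧ g ≫ f = 0 := by
  obtain ⟨C, _, ⟨e⟩⟩ := exists_iso_Q_obj_of_isLE X b
  let g₀ : (singleFunctor A b).obj (C.X b) ⟶ X := Q.map (topMap C b) ≫ e.inv
  obtain ⟨E, p, hp, hpz⟩ := exists_epi_comp_eq_zero_of_isLE b X' (g₀ ≫ f)
  obtain ⟨N, q, hq, hN⟩ := hneg (E ⊞ ((homologyFunctor A b).obj X ⊞ Z))
  let r : N ⟶ C.X b := (q ≫ biprod.fst) ≫ p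
  haveI : Epi r := inferInstance
  refine ⟨N, (singleFunctor A b).map r ≫ g₀, ?_, fun φ => ?_, fun φ => ?_, ?_⟩
  · haveI : Epi (((HomologicalComplex.single A (ComplexShape.up ℤ) b).map r ≫ topMap C b).f b) := by
      haveI := topMap_f C b
      rw [HomologicalComplex.comp_f, HomologicalComplex.single_map_f_self]
      infer_instance
    haveI : Epi ((HomologicalComplex.homologyFunctor A (ComplexShape.up ℤ) b).map
        ((HomologicalComplex.single A (ComplexShape.up ℤ) b).map r ≫ topMap C b)) :=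
      epi_homologyMap_top ((HomologicalComplex.single A (ComplexShape.up ℤ) b).map r ≫ topMap C b) b
    haveI : Epi ((homologyFunctor A b).map
        (Q.map ((HomologicalComplex.single A (ComplexShape.up ℤ) b).map r ≫ topMap C b))) :=
      (NatIso.naturality_2 (homologyFunctorFactors A b)
        ((HomologicalComplex.single A (ComplexShape.up ℤ) b).map r ≫ topMap C b)) ▸ inferInstance
    have e' : (singleFunctor A b).map r ≫ g₀ =
        Q.map ((HomologicalComplex.single A (ComplexShape.up ℤ) b).map r ≫ topMap C b) ≫ e.inv := by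
      change Q.map ((HomologicalComplex.single A (ComplexShape.up ℤ) b).map r) ≫ Q.map (topMap C b) ≫ e.inv = _
      rw [← Category.assoc, ← Q.map_comp]
    have h3 : Epi ((homologyFunctor A b).map
        (Q.map ((HomologicalComplex.single A (ComplexShape.up ℤ) b).map r ≫ topMap C b) ≫ e.inv)) := by
      rw [(homologyFunctor A b).map_comp]
      infer_instance
    rw [e']
    exact h3
  · have h := hN ((biprod.snd ≫ biprod.fst) ≫ φ)
    rwa [← cancel_epi ((biprod.snd ≫ biprod.fst) : E ⊞ ((homologyFunctor A b).obj X ⊞ Z) ⟶ _), comp_zero]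
  · have h := hN ((biprod.snd ≫ biprod.snd) ≫ φ)
    rwa [← cancel_epi ((biprod.snd ≫ biprod.snd) : E ⊞ ((homologyFunctor A b).obj X ⊞ Z) ⟶ _), comp_zero]
  · rw [Category.assoc, Functor.map_comp, Category.assoc, hpz, comp_zero]

/-- Negative objects mapping onto top cohomology. -/
theorem exists_negative
    (hneg : ∀ X : A, ∃ (N : A) (p : N ⟶ X), Epi p ∧ ∀ f : X ⟶ N, f = 0)
    (X X' : DerivedCategory A) (f : X ⟶ X') (a b : ℤ) [X.IsGE a] [X.IsLE b] [X'.IsLE (b - 1)] :
    ∃ (N : A) (g : (singleFunctor A b).obj N ⟶ X),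
      Epi ((homologyFunctor A b).map g) ∧
        (∀ φ : (homologyFunctor A b).obj X ⟶ N, φ = 0) ∧ g ≫ f = 0 := by
  obtain ⟨N, g, h₁, h₂, -, h₄⟩ := exists_negative' hneg X X' f ((homologyFunctor A b).obj X) b
  exact ⟨N, g, h₁, h₂, h₄⟩

end Groth.Agent.H02CA.Sib
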