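import Groth.Agent.H02CA.Sib.FF
import Groth.Agent.H02CA.Sib.Negative

/-!
# Siblings of a fully faithful functor are isomorphic to it in the presence of negative objects
-/

set_option autoImplicit false
set_option linter.style.haveILetI false

universe w v u v' u'

open CategoryTheory CategoryTheory.Limits CategoryTheory.Pretriangulated DerivedCategory

namespace Groth.Agent.H02CA.Sib

variable {A : Type u} [Category.{v} A] [Abelian A] [HasDerivedCategory.{w} A]

/-- Amplitude. -/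
structure Amp (a b : ℤ) (K : DerivedCategory.Bounded A) : Prop where
  ge : K.obj.IsGE a
  le : K.obj.IsLE b

lemma Amp.mono {a b a' b' : ℤ} {K : DerivedCategory.Bounded A} (h : Amp a b K) (ha : a' ≤ a) (hb : b ≤ b') :
    Amp a' b' K := by
  haveI := h.ge
  haveI := h.le
  exact ⟨DerivedCategory.TStructure.t.isGE_of_ge K.obj a' a ha, DerivedCategory.TStructure.t.isLE_of_le K.obj b b' hb⟩

lemma amp_single (X : A) {a b i : ℤ} (ha : a ≤ i) (hb : i ≤ b) : Amp a b ((sB A i).obj X) :=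
  Amp.mono ⟨inferInstanceAs (((singleFunctor A i).obj X).IsGE i), inferInstanceAs (((singleFunctor A i).obj X).IsLE i)⟩
    ha hb

lemma hom_eq_zero_of_amp {a b a' b' : ℤ} {K K' : DerivedCategory.Bounded A} (h : Amp a b K) (h' : Amp a' b' K')
    (hlt : b < a') (φ : K ⟶ K') : φ = 0 := by
  haveI := h.le
  haveI := h'.ge
  haveI : DerivedCategory.TStructure.t.IsLE ((Bounded.ι (C := A)).obj K) b := h.le
  haveI : DerivedCategory.TStructure.t.IsGE ((Bounded.ι (C := A)).obj K') a' := h'.ge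
  apply (Bounded.ι (C := A)).map_injective
  rw [DerivedCategory.TStructure.t.zero ((Bounded.ι (C := A)).map φ) b a' hlt, Functor.map_zero]

/-- Maps to a single object are detected on top cohomology. -/
theorem hom_single_eq_zero {X : DerivedCategory A} (b : ℤ) [X.IsLE b] {N : A}
    (h : ∀ φ : (homologyFunctor A b).obj X ⟶ N, φ = 0) (φ : X ⟶ (singleFunctor A b).obj N) : φ = 0 := by
  obtain ⟨C, _, ⟨e⟩⟩ := exists_iso_Q_obj_of_isLE X b
  let φ' : Q.obj C ⟶ Q.obj ((HomologicalComplex.single A (ComplexShape.up ℤ) b).obj N) := e.inv ≫ φ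
  obtain ⟨L, _, g, s, hs, hφ⟩ := left_fac_of_isStrictlyGE φ' b
  haveI : IsIso (L.homologyπ b) := L.isIso_homologyπ (b - 1) b (by simp)
    ((L.isZero_of_isStrictlyGE b (b - 1) (by omega)).eq_of_src _ _)
  haveI := isIso_iCycles_top C b
  have hH : (homologyFunctor A b).map φ' = 0 := by
    have h0 : (homologyFunctor A b).map φ ≫
        ((singleFunctorCompHomologyFunctorIso A b).app N).hom = 0 := h _
    refine (cancel_mono ((singleFunctorCompHomologyFunctorIso A b).app N).hom).1 (Eq.trans ?_ zero_comp.symm)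
    refine (congrArg (· ≫ _) ((homologyFunctor A b).map_comp e.inv φ)).trans ((Category.assoc _ _ _).trans ?_)
    exact (congrArg (_ ≫ ·) h0).trans comp_zero
  have hg : HomologicalComplex.homologyMap g b = 0 := by
    have h1 : (homologyFunctor A b).map (Q.map g) = 0 := by
      have h2 : Q.map g = φ' ≫ Q.map s := by rw [hφ, Category.assoc, IsIso.inv_hom_id, Category.comp_id]
      rw [h2, Functor.map_comp, hH, zero_comp]
    have h3 := homologyFunctorFactors_hom_naturality g b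
    rw [h1, zero_comp] at h3
    exact ((cancel_epi ((homologyFunctorFactors A b).hom.app C)).1 (comp_zero.trans h3)).symm
  have hg0 : g = 0 := by
    ext i
    rcases lt_trichotomy i b with hi | hi | hi
    · exact (L.isZero_of_isStrictlyGE b i hi).eq_of_tgt _ _
    · subst hi
      have hc : HomologicalComplex.cyclesMap g i = 0 := by
        rw [← cancel_mono (L.homologyπ i), zero_comp, ← HomologicalComplex.homologyπ_naturality, hg, comp_zero]
      rw [← cancel_epi (C.iCycles i), ← HomologicalComplex.cyclesMap_i, hc, zero_comp, HomologicalComplex.zero_f,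
        comp_zero]
    · exact (C.isZero_of_isStrictlyLE b i hi).eq_of_src _ _
  have : φ' = 0 := by rw [hφ, hg0, Functor.map_zero, zero_comp]
  exact (cancel_epi e.inv).1 (this.trans comp_zero.symm)

/-- A good triangle over an object, killing two given maps and receiving no maps from a given object. -/
theorem exists_good_triangle (hneg : ∀ X : A, ∃ (N : A) (p : N ⟶ X), Epi p ∧ ∀ f : X ⟶ N, f = 0)
    {a b : ℤ} (hab : a < b) {K W Y₁ Y₂ : DerivedCategory.Bounded A} (hK : Amp a b K) (hW : Amp a b W)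
    (hY₁ : Amp a (b - 1) Y₁) (hY₂ : Amp a (b - 1) Y₂) (φ₁ : K ⟶ Y₁) (φ₂ : K ⟶ Y₂) :
    ∃ (N : A) (K'' : DerivedCategory.Bounded A) (g : (sB A b).obj N ⟶ K) (π : K ⟶ K'')
      (δ : K'' ⟶ (shiftFunctor (DerivedCategory.Bounded A) (1 : ℤ)).obj ((sB A b).obj N)),
      Triangle.mk g π δ ∈ distTriang _ ∧ Amp a (b - 1) K'' ∧
        (∀ ψ : K ⟶ (sB A b).obj N, ψ = 0) ∧ (∀ ψ : W ⟶ (sB A b).obj N, ψ = 0) ∧ g ≫ φ₁ = 0 ∧ g ≫ φ₂ = 0 := by
  haveI := hK.le
  haveI := hK.ge
  haveI := hW.le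
  haveI : (Y₁.obj ⊞ Y₂.obj).IsLE (b - 1) := by
    rw [isLE_iff]
    intro i hi
    haveI := hY₁.le
    haveI := hY₂.le
    haveI := preservesBinaryBiproducts_of_preservesBiproducts (homologyFunctor A i)
    refine IsZero.of_iso ?_ ((homologyFunctor A i).mapBiprod Y₁.obj Y₂.obj)
    rw [IsZero.iff_id_eq_zero]
    apply biprod.hom_ext
    · exact (DerivedCategory.isZero_of_isLE Y₁.obj (b - 1) i hi).eq_of_tgt _ _
    · exact (DerivedCategory.isZero_of_isLE Y₂.obj (b - 1) i hi).eq_of_tgt _ _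
  obtain ⟨N, g₀, hepi, hH, hZ, hg0⟩ := exists_negative' hneg K.obj (Y₁.obj ⊞ Y₂.obj)
    (biprod.lift φ₁.hom φ₂.hom) ((homologyFunctor A b).obj W.obj) b
  let g : (sB A b).obj N ⟶ K := ObjectProperty.homMk g₀
  obtain ⟨K'', π, δ, hT⟩ := distinguished_cocone_triangle g
  have hT' := (Bounded.ι (C := A)).map_distinguished _ hT
  refine ⟨N, K'', g, π, δ, hT, ⟨?_, ?_⟩, fun ψ => ObjectProperty.hom_ext _ (hom_single_eq_zero b hH ψ.hom),
    fun ψ => ObjectProperty.hom_ext _ (hom_single_eq_zero b hZ ψ.hom), ObjectProperty.hom_ext _ ?_,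
    ObjectProperty.hom_ext _ ?_⟩
  · rw [isGE_iff]
    intro i hi
    have hz : IsZero ((homologyFunctor A (i + 1)).obj ((singleFunctor A b).obj N)) :=
      DerivedCategory.isZero_of_isGE _ b (i + 1) (by omega)
    exact (DerivedCategory.HomologySequence.exact₃ _ hT' i (i + 1) rfl).isZero_of_both_isZero
      (DerivedCategory.isZero_of_isGE K.obj a i hi) hz
  · rw [isLE_iff]
    intro i hi
    have hz : IsZero ((homologyFunctor A (i + 1)).obj ((singleFunctor A b).obj N)) :=
      DerivedCategory.isZero_of_isLE _ b (i + 1) (by omega)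
    refine (DerivedCategory.HomologySequence.exact₃ _ hT' i (i + 1) rfl).isZero_of_both_zeros ?_
      (hz.eq_zero_of_tgt _)
    rcases lt_or_eq_of_le (show b ≤ i by omega) with hbi | rfl
    · exact (DerivedCategory.isZero_of_isLE K.obj b i hbi).eq_zero_of_src _
    · exact (DerivedCategory.HomologySequence.epi_homologyMap_mor₁_iff _ hT' b).1 hepi
  · have h := congrArg (· ≫ biprod.fst) hg0
    simp only [Category.assoc, biprod.lift_fst, zero_comp] at h
    exact h
  · have h := congrArg (· ≫ biprod.snd) hg0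
    simp only [Category.assoc, biprod.lift_snd, zero_comp] at h
    exact h

variable {D : Type u'} [Category.{v'} D] [Preadditive D] [HasZeroObject D] [HasShift D ℤ]
  [∀ n : ℤ, (shiftFunctor D n).Additive] [Pretriangulated D]
  {F F' : DerivedCategory.Bounded A ⥤ D} [F.CommShift ℤ] [F.IsTriangulated] [F'.CommShift ℤ] [F'.IsTriangulated]

omit [HasZeroObject D] [Pretriangulated D] [∀ n : ℤ, (shiftFunctor D n).Additive] [F.IsTriangulated]
  [F'.IsTriangulated] [F.CommShift ℤ] [F'.CommShift ℤ] [HasShift D ℤ] in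
lemma Compat.symm {P Q : DerivedCategory.Bounded A} {cP : F.obj P ≅ F'.obj P} {cQ : F.obj Q ≅ F'.obj Q}
    {e : P ≅ Q} (h : Compat F F' cP cQ e.hom) : Compat F F' cQ cP e.inv := by
  unfold Compat at *
  rw [← cancel_epi (F.mapIso e).hom, Functor.mapIso_hom, ← Category.assoc, ← Category.assoc, h, Category.assoc]
  simp [← Functor.map_comp, ← Functor.map_comp_assoc]

omit [F.IsTriangulated] [F'.IsTriangulated] in
/-- The comparison in each degree. -/
noncomputable def degIso (θ : sB A 0 ⋙ F ≅ sB A 0 ⋙ F') (i : ℤ) : sB A i ⋙ F ≅ sB A i ⋙ F' :=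
  Functor.isoWhiskerRight (shiftSB A (-i) i 0 (by omega)).symm F ≪≫ Functor.associator _ _ _ ≪≫
    Functor.isoWhiskerLeft _ (F.commShiftIso (-i)) ≪≫ (Functor.associator _ _ _).symm ≪≫
    Functor.isoWhiskerRight θ _ ≪≫ Functor.associator _ _ _ ≪≫
    Functor.isoWhiskerLeft _ (F'.commShiftIso (-i)).symm ≪≫ (Functor.associator _ _ _).symm ≪≫
    Functor.isoWhiskerRight (shiftSB A (-i) i 0 (by omega)) F'

omit [F.IsTriangulated] [F'.IsTriangulated] in
lemma compat_degIso (θ : sB A 0 ⋙ F ≅ sB A 0 ⋙ F') (i : ℤ) (X : A) :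
    Compat F F' (shC (-i) (θ.app X)) ((degIso θ i).app X)
      ((shiftSB A (-i) i 0 (by omega)).app X).hom := by
  simp [Compat, shC, degIso, ← Functor.map_comp_assoc]

omit [F.IsTriangulated] [F'.IsTriangulated] in
lemma compat_down (θ : sB A 0 ⋙ F ≅ sB A 0 ⋙ F') (b : ℤ) (X : A) :
    ∃ e : (shiftFunctor (DerivedCategory.Bounded A) (1 : ℤ)).obj ((sB A b).obj X) ≅ (sB A (b - 1)).obj X,
      Compat F F' (shC 1 ((degIso θ b).app X)) ((degIso θ (b - 1)).app X) e.hom := by
  let eb := (shiftSB A (-b) b 0 (by omega)).app X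
  let ec := (shiftSB A (-(b - 1)) (b - 1) 0 (by omega)).app X
  refine ⟨(shiftFunctor (DerivedCategory.Bounded A) (1 : ℤ)).mapIso eb.symm ≪≫
    (shiftFunctorAdd' (DerivedCategory.Bounded A) (-b) 1 (-(b - 1)) (by omega)).symm.app _ ≪≫ ec, ?_⟩
  exact (Compat.shift 1 (compat_degIso θ b X).symm).comp
    ((compat_add (-b) 1 (-(b - 1)) (by omega) (θ.app X)).comp (compat_degIso θ (b - 1) X))

omit [F'.CommShift ℤ] [F'.IsTriangulated] [F.CommShift ℤ] [F.IsTriangulated] in
/-- A natural comparison on objects of bounded amplitude. -/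
structure Good (Θ : ∀ i, sB A i ⋙ F ≅ sB A i ⋙ F') (a b : ℤ) where
  /-- The comparison. -/
  app : ∀ K, Amp a b K → (F.obj K ⟶ F'.obj K)
  nat : ∀ {K K' : DerivedCategory.Bounded A} (hK : Amp a b K) (hK' : Amp a b K') (φ : K ⟶ K'),
    F.map φ ≫ app K' hK' = app K hK ≫ F'.map φ
  single : ∀ (i : ℤ) (X : A) (h : Amp a b ((sB A i).obj X)), a ≤ i → i ≤ b →
    app ((sB A i).obj X) h = (Θ i).hom.app X
  iso : ∀ K hK, IsIso (app K hK)

variable [F.Full] [F.Faithful] (θ : sB A 0 ⋙ F ≅ sB A 0 ⋙ F')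

omit [F.IsTriangulated] [F'.IsTriangulated] in
include θ in
lemma eq_zero_to_single {K : DerivedCategory.Bounded A} {b : ℤ} {N : A} (h : ∀ ψ : K ⟶ (sB A b).obj N, ψ = 0)
    (k : F.obj K ⟶ F'.obj ((sB A b).obj N)) : k = 0 := by
  obtain ⟨k₀, hk₀⟩ := F.map_surjective (k ≫ ((degIso θ b).app N).inv)
  rw [h k₀, Functor.map_zero] at hk₀
  exact (cancel_mono ((degIso θ b).app N).inv).1 (hk₀.symm.trans zero_comp.symm)

omit [F.IsTriangulated] in
include θ in
lemma eq_of_comp_eq {K K'' : DerivedCategory.Bounded A} {b : ℤ} {N : A} {W : DerivedCategory.Bounded A}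
    {g : (sB A b).obj N ⟶ K} {π : K ⟶ K''}
    {δ : K'' ⟶ (shiftFunctor (DerivedCategory.Bounded A) (1 : ℤ)).obj ((sB A b).obj N)}
    (hT : Triangle.mk g π δ ∈ distTriang _) (hW : ∀ ψ : W ⟶ (sB A b).obj N, ψ = 0)
    {e e' : F.obj W ⟶ F'.obj K} (h : e ≫ F'.map π = e' ≫ F'.map π) : e = e' := by
  obtain ⟨k, hk⟩ : ∃ k : F.obj W ⟶ F'.obj ((sB A b).obj N), e - e' = k ≫ F'.map g :=
    Triangle.coyoneda_exact₂ _ (F'.map_distinguished _ hT) (e - e') (by
      change (e - e') ≫ F'.map π = 0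
      rw [Preadditive.sub_comp, h, sub_self])
  rw [eq_zero_to_single θ hW k, zero_comp] at hk
  exact sub_eq_zero.1 hk

omit [F.IsTriangulated] in
/-- Uniqueness. -/
theorem good_unique (hneg : ∀ X : A, ∃ (N : A) (p : N ⟶ X), Epi p ∧ ∀ f : X ⟶ N, f = 0) (a : ℤ) (n : ℕ) :
    ∀ (b : ℤ), b = a + n → ∀ (G G' : Good (degIso (F := F) (F' := F') θ) a b)
      (K : DerivedCategory.Bounded A) (hK : Amp a b K), G.app K hK = G'.app K hK := by
  induction n with
  | zero =>
    intro b hb G G' K hK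
    obtain rfl : b = a := by simpa using hb
    haveI := hK.ge
    haveI := hK.le
    obtain ⟨X, ⟨e⟩⟩ := exists_iso_singleFunctor_obj_of_isGE_of_isLE K.obj b
    let e' : K ≅ (sB A b).obj X := (ObjectProperty.fullyFaithfulι _).preimageIso e
    have h1 := G.nat (amp_single X le_rfl le_rfl) hK e'.inv
    have h2 := G'.nat (amp_single X le_rfl le_rfl) hK e'.inv
    rw [G.single b X _ le_rfl le_rfl] at h1
    rw [G'.single b X _ le_rfl le_rfl, ← h1] at h2
    exact ((cancel_epi (F.map e'.inv)).1 h2).symm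
  | succ n ih =>
    intro b hb G G' K hK
    have hY := amp_single ((homologyFunctor A b).obj K.obj) (le_rfl : a ≤ a) (show a ≤ b - 1 by omega)
    obtain ⟨N, K'', g, π, δ, hT, hK'', hhom, -, -, -⟩ :=
      exists_good_triangle hneg (by omega) hK hK hY hY 0 0
    let res : Good (degIso (F := F) (F' := F') θ) a b → Good (degIso (F := F) (F' := F') θ) a (b - 1) := fun H =>
      { app := fun L hL => H.app L (hL.mono le_rfl (by omega))
        nat := fun hL hL' φ => H.nat _ _ φ
        single := fun i X h hai hib => H.single i X _ hai (by omega)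
        iso := fun L hL => H.iso L _ }
    refine eq_of_comp_eq θ hT hhom ?_
    rw [← G.nat hK (hK''.mono le_rfl (by omega)) π, ← G'.nat hK (hK''.mono le_rfl (by omega)) π]
    exact congrArg (F.map π ≫ ·) (ih (b - 1) (by push_cast at hb; omega) (res G) (res G') K'' hK'')

/-- Existence. -/
theorem good_exists (hneg : ∀ X : A, ∃ (N : A) (p : N ⟶ X), Epi p ∧ ∀ f : X ⟶ N, f = 0) (a : ℤ) (n : ℕ) :
    ∀ (b : ℤ), b = a + n → Nonempty (Good (degIso (F := F) (F' := F') θ) a b) := by
  induction n with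
  | zero =>
    intro b hb
    obtain rfl : b = a := by simpa using hb
    have he : ∀ (K : DerivedCategory.Bounded A), Amp b b K → ∃ X : A, Nonempty (K ≅ (sB A b).obj X) := fun K hK => by
      haveI := hK.ge
      haveI := hK.le
      obtain ⟨X, ⟨e⟩⟩ := exists_iso_singleFunctor_obj_of_isGE_of_isLE K.obj b
      exact ⟨X, ⟨(ObjectProperty.fullyFaithfulι _).preimageIso e⟩⟩
    choose X e using he
    let θb := degIso (F := F) (F' := F') θ b
    let app : ∀ K (hK : Amp b b K), F.obj K ⟶ F'.obj K := fun K hK =>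
      F.map (e K hK).some.hom ≫ θb.hom.app (X K hK) ≫ F'.map (e K hK).some.inv
    have hnat : ∀ {K K' : DerivedCategory.Bounded A} (hK : Amp b b K) (hK' : Amp b b K') (φ : K ⟶ K'),
        F.map φ ≫ app K' hK' = app K hK ≫ F'.map φ := by
      intro K K' hK hK' φ
      obtain ⟨ψ, hψ⟩ := (sB A b).map_surjective ((e K hK).some.inv ≫ φ ≫ (e K' hK').some.hom)
      have hφ : φ = (e K hK).some.hom ≫ (sB A b).map ψ ≫ (e K' hK').some.inv := by
        rw [hψ]
        simp
      have hn : F.map ((sB A b).map ψ) ≫ θb.hom.app (X K' hK') = θb.hom.app (X K hK) ≫ F'.map ((sB A b).map ψ) :=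
        θb.hom.naturality ψ
      conv_lhs => rw [hφ]
      conv_rhs => rw [hφ]
      simp only [app, Functor.map_comp, Category.assoc]
      rw [← F.map_comp_assoc (e K' hK').some.inv, Iso.inv_hom_id, CategoryTheory.Functor.map_id]
      rw [← F'.map_comp_assoc (e K hK).some.inv (e K hK).some.hom, Iso.inv_hom_id, CategoryTheory.Functor.map_id,
        Category.id_comp, Category.id_comp, reassoc_of% hn]
    refine ⟨⟨app, hnat, fun i Y h hbi hib => ?_, fun K hK => ?_⟩⟩
    · obtain rfl : i = b := by omega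
      obtain ⟨ψ, hψ⟩ := (sB A i).map_surjective (e _ h).some.hom
      haveI : IsIso ((sB A i).map ψ) := hψ ▸ inferInstance
      have hn : F.map ((sB A i).map ψ) ≫ θb.hom.app (X _ h) = θb.hom.app Y ≫ F'.map ((sB A i).map ψ) :=
        θb.hom.naturality ψ
      rw [hψ] at hn
      change F.map (e _ h).some.hom ≫ θb.hom.app (X _ h) ≫ F'.map (e _ h).some.inv = _
      rw [reassoc_of% hn, ← F'.map_comp, Iso.hom_inv_id, CategoryTheory.Functor.map_id]
      exact Category.comp_id _
    · haveI : IsIso (θb.hom.app (X K hK)) := inferInstance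
      infer_instance
  | succ n ih =>
    intro b hb
    obtain ⟨G₀⟩ := ih (b - 1) (by push_cast at hb; omega)
    have hab : a < b := by push_cast at hb; omega
    let Θ := degIso (F := F) (F' := F') θ
    have hex : ∀ {K K'' : DerivedCategory.Bounded A} {N : A} {g : (sB A b).obj N ⟶ K} {π : K ⟶ K''}
        {δ : K'' ⟶ (shiftFunctor (DerivedCategory.Bounded A) (1 : ℤ)).obj ((sB A b).obj N)}
        (_ : Triangle.mk g π δ ∈ distTriang _) (hK'' : Amp a (b - 1) K''),
        ∃ e : F.obj K ⟶ F'.obj K, IsIso e ∧ F.map g ≫ e = (Θ b).hom.app N ≫ F'.map g ∧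
          F.map π ≫ G₀.app K'' hK'' = e ≫ F'.map π := by
      intro K K'' N g π δ hT hK''
      obtain ⟨d, hd⟩ := compat_down (F := F) (F' := F') θ b N
      have hdn : Compat F F' (@asIso _ _ _ _ (G₀.app K'' hK'') (G₀.iso K'' hK'')) ((Θ (b - 1)).app N) (δ ≫ d.hom) := by
        refine (G₀.nat hK'' (amp_single N (by omega) le_rfl) (δ ≫ d.hom) |>.symm.trans ?_).symm
        rw [G₀.single (b - 1) N _ (by omega) le_rfl]; rfl
      have hδ : Compat F F' (@asIso _ _ _ _ (G₀.app K'' hK'') (G₀.iso K'' hK'')) (shC 1 ((Θ b).app N)) δ := by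
        have h := hdn.comp hd.symm
        rwa [Category.assoc, Iso.hom_inv_id, Category.comp_id] at h
      have h3 : (F.map δ ≫ (F.commShiftIso (1 : ℤ)).hom.app ((sB A b).obj N)) ≫
          (shiftFunctor D (1 : ℤ)).map ((Θ b).hom.app N) =
          G₀.app K'' hK'' ≫ F'.map δ ≫ (F'.commShiftIso (1 : ℤ)).hom.app ((sB A b).obj N) := by
        have h : F.map δ ≫ (F.commShiftIso (1 : ℤ)).hom.app _ ≫ (shiftFunctor D (1 : ℤ)).map ((Θ b).hom.app N) ≫
            (F'.commShiftIso (1 : ℤ)).inv.app _ = G₀.app K'' hK'' ≫ F'.map δ := hδ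
        rw [← Category.assoc (G₀.app K'' hK''), ← h]
        simp only [Category.assoc]
        erw [Iso.inv_hom_id_app, Category.comp_id]
      obtain ⟨ξ, hξ₁, hξ₂⟩ : ∃ ξ : F.obj K ⟶ F'.obj K, F.map g ≫ ξ = (Θ b).hom.app N ≫ F'.map g ∧
          F.map π ≫ G₀.app K'' hK'' = ξ ≫ F'.map π :=
        complete_distinguished_triangle_morphism₂ _ _ (F.map_distinguished _ hT) (F'.map_distinguished _ hT)
          ((Θ b).hom.app N) (G₀.app K'' hK'') h3
      let χ : F.mapTriangle.obj (Triangle.mk g π δ) ⟶ F'.mapTriangle.obj (Triangle.mk g π δ) :=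
        { hom₁ := (Θ b).hom.app N
          hom₂ := ξ
          hom₃ := G₀.app K'' hK''
          comm₁ := hξ₁
          comm₂ := hξ₂
          comm₃ := h3 }
      have h₁ : IsIso χ.hom₁ := (inferInstance : IsIso ((Θ b).hom.app N))
      exact ⟨ξ, isIso₂_of_isIso₁₃ χ (F.map_distinguished _ hT) (F'.map_distinguished _ hT) h₁ (G₀.iso K'' hK''),
        hξ₁, hξ₂⟩
    have hpush : ∀ {K K₁ Y : DerivedCategory.Bounded A} {e : F.obj K ⟶ F'.obj K} {π₁ : K ⟶ K₁}
        (hK₁ : Amp a (b - 1) K₁) (hY : Amp a (b - 1) Y), F.map π₁ ≫ G₀.app K₁ hK₁ = e ≫ F'.map π₁ →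
        ∀ h : K₁ ⟶ Y, F.map (π₁ ≫ h) ≫ G₀.app Y hY = e ≫ F'.map (π₁ ≫ h) := by
      intro K K₁ Y e π₁ hK₁ hY he h
      rw [Functor.map_comp, Category.assoc, G₀.nat hK₁ hY h, ← Category.assoc, he, Category.assoc,
        ← Functor.map_comp]
    have happ : ∀ (K : DerivedCategory.Bounded A) (_ : Amp a b K), ∃ e : F.obj K ⟶ F'.obj K, IsIso e ∧
        ∀ (Y : DerivedCategory.Bounded A) (hY : Amp a (b - 1) Y) (φ : K ⟶ Y),
          F.map φ ≫ G₀.app Y hY = e ≫ F'.map φ := by
      intro K hK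
      have hY₀ := amp_single ((homologyFunctor A b).obj K.obj) (le_rfl : a ≤ a) (show a ≤ b - 1 by omega)
      obtain ⟨N, K'', g, π, δ, hT, hK'', hhom, -, -, -⟩ := exists_good_triangle hneg hab hK hK hY₀ hY₀ 0 0
      obtain ⟨e, he, -, he₂⟩ := hex hT hK''
      refine ⟨e, he, fun Y hY φ => ?_⟩
      obtain ⟨N₁, K₁, g₁, π₁, δ₁, hT₁, hK₁, -, -, hπ, hφ⟩ := exists_good_triangle hneg hab hK hK hK'' hY π φ
      obtain ⟨e₁, -, -, he₁⟩ := hex hT₁ hK₁
      obtain ⟨h, hh⟩ : ∃ h : K₁ ⟶ K'', π = π₁ ≫ h := Triangle.yoneda_exact₂ _ hT₁ π hπ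
      obtain ⟨h', hh'⟩ : ∃ h' : K₁ ⟶ Y, φ = π₁ ≫ h' := Triangle.yoneda_exact₂ _ hT₁ φ hφ
      have hee : e = e₁ := eq_of_comp_eq θ hT hhom (he₂.symm.trans (by rw [hh]; exact hpush hK₁ hK'' he₁ h))
      rw [hh', hee]
      exact hpush hK₁ hY he₁ h'
    choose app hiso happ using happ
    refine ⟨⟨app, fun {K K'} hK hK' φ => ?_, fun i X hX hai hib => ?_, hiso⟩⟩
    · have hY₀ := amp_single ((homologyFunctor A b).obj K.obj) (le_rfl : a ≤ a) (show a ≤ b - 1 by omega)
      obtain ⟨N, K'', g, π, δ, hT, hK'', -, hhom, -, -⟩ := exists_good_triangle hneg hab hK' hK hY₀ hY₀ 0 0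
      refine eq_of_comp_eq θ hT hhom ?_
      rw [Category.assoc, Category.assoc, ← happ K' hK' K'' hK'' π, ← Category.assoc, ← Functor.map_comp,
        ← Functor.map_comp, happ K hK K'' hK'' (φ ≫ π)]
    · rcases lt_or_eq_of_le hib with hlt | rfl
      · have h0 := amp_single X hai (show i ≤ b - 1 by omega)
        have h := happ _ hX _ h0 (𝟙 ((sB A i).obj X))
        rw [CategoryTheory.Functor.map_id, CategoryTheory.Functor.map_id, Category.id_comp, Category.comp_id] at h
        rw [← h]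
        exact G₀.single i X h0 hai (by omega)
      · have hY₀ := amp_single X (le_rfl : a ≤ a) (show a ≤ i - 1 by omega)
        obtain ⟨N, K'', g, π, δ, hT, hK'', hhom, -, -, -⟩ := exists_good_triangle hneg hab hX hX hY₀ hY₀ 0 0
        obtain ⟨e', -, he₁, he₂⟩ := hex hT hK''
        have hee : app _ hX = e' := eq_of_comp_eq θ hT hhom ((happ _ hX K'' hK'' π).symm.trans he₂)
        rw [hee]
        obtain ⟨ψ, rfl⟩ := (sB A i).map_surjective g
        have hn : F.map ((sB A i).map ψ) ≫ (Θ i).hom.app X = (Θ i).hom.app N ≫ F'.map ((sB A i).map ψ) :=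
          (Θ i).hom.naturality ψ
        let θX : F.obj ((sB A i).obj X) ⟶ F'.obj ((sB A i).obj X) := (Θ i).hom.app X
        obtain ⟨k, hk⟩ : ∃ k : F.obj K'' ⟶ F'.obj ((sB A i).obj X), e' - θX = F.map π ≫ k :=
          Triangle.yoneda_exact₂ _ (F.map_distinguished _ hT) (e' - θX) (by
            change F.map ((sB A i).map ψ) ≫ (e' - θX) = 0
            rw [Preadditive.comp_sub, he₁, sub_eq_zero]
            exact hn.symm)
        rw [eq_zero_to_single θ (fun ψ' => hom_eq_zero_of_amp hK'' (amp_single X (le_refl i) le_rfl) (by omega) ψ') k,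
          comp_zero] at hk
        exact sub_eq_zero.1 hk

/-- Siblings of a fully faithful functor are isomorphic to it. -/
theorem nonempty_iso_of_negative (hneg : ∀ X : A, ∃ (N : A) (p : N ⟶ X), Epi p ∧ ∀ f : X ⟶ N, f = 0)
    (h1 : Nonempty (DEquiv.singleB A ⋙ F ≅ DEquiv.singleB A ⋙ F')) : Nonempty (F ≅ F') := by
  obtain ⟨θ⟩ := h1
  let Θ := degIso (F := F) (F' := F') θ
  have hbd : ∀ K : DerivedCategory.Bounded A, ∃ p : ℤ × ℕ, Amp p.1 (p.1 + p.2) K := by
    intro K
    obtain ⟨⟨a, ha⟩, ⟨b, hb⟩⟩ := K.property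
    exact ⟨⟨a, (b - a).toNat⟩, Amp.mono (a := a) (b := b) ⟨ha, hb⟩ le_rfl (by omega)⟩
  choose p hp using hbd
  let G : ∀ (a : ℤ) (n : ℕ), Good Θ a (a + n) := fun a n => (good_exists θ hneg a n (a + n) rfl).some
  have hG : ∀ (a : ℤ) (n : ℕ) (K : DerivedCategory.Bounded A) (hK : Amp a (a + n) K),
      (G (p K).1 (p K).2).app K (hp K) = (G a n).app K hK := by
    intro a n K hK
    let a' := min a (p K).1
    let b' := max (a + n) ((p K).1 + (p K).2)
    let n' := (b' - a').toNat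
    have key : ∀ (a₀ : ℤ) (n₀ : ℕ) (h₀ : Amp a₀ (a₀ + n₀) K) (ha₀ : a' ≤ a₀) (hb₀ : a₀ + n₀ ≤ a' + n'),
        (G a₀ n₀).app K h₀ = (G a' n').app K (h₀.mono ha₀ hb₀) := fun a₀ n₀ h₀ ha₀ hb₀ =>
      good_unique θ hneg a₀ n₀ (a₀ + n₀) rfl (G a₀ n₀)
        { app := fun L hL => (G a' n').app L (hL.mono ha₀ hb₀)
          nat := fun hL hL' φ => (G a' n').nat _ _ φ
          single := fun i X h hai hib => (G a' n').single i X _ (ha₀.trans hai) (hib.trans hb₀)
          iso := fun L hL => (G a' n').iso L _ } K h₀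
    rw [key _ _ (hp K) (by omega) (by omega), key a n hK (by omega) (by omega)]
  let η : ∀ K, F.obj K ⟶ F'.obj K := fun K => (G (p K).1 (p K).2).app K (hp K)
  haveI : ∀ K, IsIso (η K) := fun K => (G _ _).iso K _
  refine ⟨NatIso.ofComponents (fun K => asIso (η K)) fun {K K'} φ => ?_⟩
  let a := min (p K).1 (p K').1
  let n := (max ((p K).1 + (p K).2) ((p K').1 + (p K').2) - a).toNat
  have hK : Amp a (a + n) K := (hp K).mono (by omega) (by omega)
  have hK' : Amp a (a + n) K' := (hp K').mono (by omega) (by omega)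
  change F.map φ ≫ η K' = η K ≫ F'.map φ
  rw [show η K' = _ from hG a n K' hK', show η K = _ from hG a n K hK]
  exact (G a n).nat hK hK' φ

end Groth.Agent.H02CA.Sib
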